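import Cfsg.Agent.Lib.ThreeTransp.ThompsonWielandt
import Mathlib.GroupTheory.SpecificGroups.Alternating.Simple
import Mathlib.GroupTheory.Perm.Cycle.Type

/-!
# Groups containing the alternating group
-/

set_option autoImplicit false

namespace Cfsg.Agent.Lib.Perm.Unfaithful

open Cfsg.Agent.Lib.ThreeTransp.ThompsonWielandt
open scoped Nat

variable {n : ℕ}

theorem two_mul_card_alt (hn : 2 ≤ n) : 2 * Nat.card (alternatingGroup (Fin n)) = n ! := by
  haveI : Nontrivial (Fin n) := Fin.nontrivial_iff_two_le.2 hn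
  rw [two_mul_nat_card_alternatingGroup, Nat.card_perm, Nat.card_fin]

/-- A large subgroup contains the alternating group. -/
theorem alt_le_of_card (hn : 2 ≤ n) {R : Subgroup (Equiv.Perm (Fin n))}
    (h : n ! ≤ 2 * Nat.card R) : alternatingGroup (Fin n) ≤ R := by
  haveI : Nontrivial (Fin n) := Fin.nontrivial_iff_two_le.2 hn
  refine Equiv.Perm.alternatingGroup_le_of_index_le_two ?_
  have h1 := R.card_mul_index
  rw [Nat.card_perm, Nat.card_fin] at h1
  by_contra hgt
  have h2 : Nat.card R * 3 ≤ Nat.card R * R.index := Nat.mul_le_mul_left _ (by omega)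
  have : 0 < Nat.card R := Nat.card_pos
  omega

theorem card_ge_of_alt_le (hn : 2 ≤ n) {R : Subgroup (Equiv.Perm (Fin n))}
    (h : alternatingGroup (Fin n) ≤ R) : n ! ≤ 2 * Nat.card R := by
  rw [← two_mul_card_alt hn]
  exact Nat.mul_le_mul_left 2 (Subgroup.card_le_of_le h)

/-- Only the identity commutes with all even permutations. -/
theorem eq_one_of_commute (hn : 4 ≤ n) {x : Equiv.Perm (Fin n)}
    (h : ∀ a ∈ alternatingGroup (Fin n), a * x = x * a) : x = 1 := by
  by_contra hne
  obtain ⟨i, hi⟩ : ∃ i, x i ≠ i := by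
    by_contra hall
    push Not at hall
    exact hne (Equiv.ext hall)
  obtain ⟨k, hk, hk'⟩ : ∃ k, k ≠ i ∧ k ≠ x i := by
    by_contra hall
    push Not at hall
    have h3 : (Finset.univ : Finset (Fin n)) ⊆ {i, x i} := fun k _ => by
      by_cases hki : k = i
      · simp [hki]
      · simp [hall k hki]
    have := Finset.card_le_card h3
    rw [Finset.card_univ, Fintype.card_fin] at this
    have := this.trans Finset.card_le_two
    omega
  obtain ⟨l, hl, hl', hl''⟩ : ∃ l, l ≠ i ∧ l ≠ x i ∧ l ≠ k := by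
    by_contra hall
    push Not at hall
    have h3 : (Finset.univ : Finset (Fin n)) ⊆ {i, x i, k} := fun l _ => by
      by_cases hli : l = i
      · simp [hli]
      by_cases hlx : l = x i
      · simp [hlx]
      · simp [hall l hli hlx]
    have := (Finset.card_le_card h3).trans Finset.card_le_three
    rw [Finset.card_univ, Fintype.card_fin] at this
    omega
  have h1 := h (Equiv.swap (x i) k * Equiv.swap (x i) l)
    (Equiv.Perm.mul_mem_alternatingGroup_of_isSwap ⟨x i, k, hk'.symm, rfl⟩ ⟨x i, l, hl'.symm, rfl⟩)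
  have h2 := congrArg (fun f : Equiv.Perm (Fin n) => f i) h1
  simp only [Equiv.Perm.mul_apply] at h2
  rw [Equiv.swap_apply_left, Equiv.swap_apply_of_ne_of_ne hl' hl'',
    Equiv.swap_apply_of_ne_of_ne hi.symm hl.symm, Equiv.swap_apply_of_ne_of_ne hi.symm hk.symm] at h2
  exact hl' h2

theorem alt_not_comm (hn : 4 ≤ n)
    (h : ∀ a ∈ alternatingGroup (Fin n), ∀ b ∈ alternatingGroup (Fin n), a * b = b * a) : False := by
  have h1 : alternatingGroup (Fin n) = ⊥ := (Subgroup.eq_bot_iff_forall _).2 fun x hx =>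
    eq_one_of_commute hn fun a ha => h a ha x hx
  have h2 := two_mul_card_alt (n := n) (by omega)
  rw [h1, Subgroup.card_bot] at h2
  have : n ! ≥ 4 ! := Nat.factorial_le hn
  simp [Nat.factorial] at this
  omega

/-- A nontrivial normal subgroup of a group containing the alternating group contains it. -/
theorem alt_le_of_normal (hn : 5 ≤ n) {R N : Subgroup (Equiv.Perm (Fin n))}
    (hR : alternatingGroup (Fin n) ≤ R) (hN : ∀ r ∈ R, ∀ x ∈ N, r * x * r⁻¹ ∈ N) (hne : N ≠ ⊥) :
    alternatingGroup (Fin n) ≤ N := by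
  haveI : IsSimpleGroup (alternatingGroup (Fin n)) :=
    alternatingGroup.isSimpleGroup (by rw [Nat.card_fin]; exact hn)
  have hnorm : (N.subgroupOf (alternatingGroup (Fin n))).Normal := ⟨fun x hx r => hN r (hR r.2) x hx⟩
  rcases hnorm.eq_bot_or_eq_top with h | h
  · exfalso
    refine hne ((Subgroup.eq_bot_iff_forall _).2 fun x hx => eq_one_of_commute (by omega) fun a ha => ?_)
    have h1 : a * x * a⁻¹ * x⁻¹ ∈ N := N.mul_mem (hN a (hR ha) x hx) (N.inv_mem hx)
    have h2 : a * x * a⁻¹ * x⁻¹ ∈ alternatingGroup (Fin n) := by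
      rw [Equiv.Perm.mem_alternatingGroup, map_mul, map_mul, map_mul, map_inv, map_inv]
      rw [mul_right_comm (Equiv.Perm.sign a), mul_inv_cancel, one_mul, mul_inv_cancel]
    have h3 : (⟨_, h2⟩ : alternatingGroup (Fin n)) ∈ (⊥ : Subgroup _) := h ▸ h1
    have h4 : a * x * a⁻¹ * x⁻¹ = 1 := congrArg Subtype.val (Subgroup.mem_bot.1 h3)
    exact mul_inv_eq_iff_eq_mul.1 (mul_inv_eq_one.1 h4)
  · exact Subgroup.subgroupOf_eq_top.1 h

theorem alt_perfect (hn : 5 ≤ n) :
    ⁅alternatingGroup (Fin n), alternatingGroup (Fin n)⁆ = alternatingGroup (Fin n) := by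
  refine le_antisymm (Subgroup.commutator_le_self _) (alt_le_of_normal hn le_rfl (fun r hr x hx => ?_) ?_)
  · have h := Subgroup.mem_map_of_mem (MulAut.conj r).toMonoidHom hx
    rw [Subgroup.map_commutator] at h
    have e : (alternatingGroup (Fin n)).map (MulAut.conj r).toMonoidHom ≤ alternatingGroup (Fin n) := by
      rintro _ ⟨y, hy, rfl⟩
      exact Subgroup.Normal.conj_mem inferInstance y hy r
    exact Subgroup.commutator_mono e e h
  · intro h
    exact alt_not_comm (by omega) fun a ha b hb =>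
      (Subgroup.mem_centralizer_iff.1 (Subgroup.commutator_eq_bot_iff_le_centralizer.1 h hb) a ha)

theorem commutator_le_alt (R S : Subgroup (Equiv.Perm (Fin n))) : ⁅R, S⁆ ≤ alternatingGroup (Fin n) := by
  rw [Subgroup.commutator_le]
  intro a _ b _
  rw [commutatorElement_def, Equiv.Perm.mem_alternatingGroup, map_mul, map_mul, map_mul, map_inv, map_inv]
  rw [mul_right_comm (Equiv.Perm.sign a), mul_inv_cancel, one_mul, mul_inv_cancel]

/-- The second derived subgroup. -/
def d2 {G : Type*} [Group G] (R : Subgroup G) : Subgroup G := ⁅⁅R, R⁆, ⁅R, R⁆⁆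

theorem d2_le {G : Type*} [Group G] (R : Subgroup G) : d2 R ≤ R :=
  (Subgroup.commutator_le_self _).trans (Subgroup.commutator_le_self _)

theorem d2_mono {G : Type*} [Group G] {R S : Subgroup G} (h : R ≤ S) : d2 R ≤ d2 S :=
  Subgroup.commutator_mono (Subgroup.commutator_mono h h) (Subgroup.commutator_mono h h)

theorem d2_map {G G' : Type*} [Group G] [Group G'] (f : G →* G') (R : Subgroup G) :
    (d2 R).map f = d2 (R.map f) := by
  simp [d2, Subgroup.map_commutator]

theorem d2_alt (hn : 5 ≤ n) {R : Subgroup (Equiv.Perm (Fin n))} (h : alternatingGroup (Fin n) ≤ R) :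
    d2 R = alternatingGroup (Fin n) := by
  refine le_antisymm (commutator_le_alt _ _) ?_
  have h1 : alternatingGroup (Fin n) ≤ ⁅R, R⁆ := (alt_perfect hn).ge.trans (Subgroup.commutator_mono h h)
  exact (alt_perfect hn).ge.trans (Subgroup.commutator_mono h1 h1)

theorem le_normalizer_commutator {G : Type*} [Group G] {H R S : Subgroup G}
    (hR : H ≤ Subgroup.normalizer (R : Set G)) (hS : H ≤ Subgroup.normalizer (S : Set G)) :
    H ≤ Subgroup.normalizer ((⁅R, S⁆ : Subgroup G) : Set G) := by
  refine le_normalizer_of_conj_mem fun x hx z hz => ?_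
  have h := Subgroup.mem_map_of_mem (MulAut.conj x).toMonoidHom hz
  rw [Subgroup.map_commutator] at h
  refine Subgroup.commutator_mono ?_ ?_ h
  · rintro _ ⟨y, hy, rfl⟩; exact conj_mem hR hx hy
  · rintro _ ⟨y, hy, rfl⟩; exact conj_mem hS hx hy

theorem le_normalizer_d2 {G : Type*} [Group G] {H R : Subgroup G}
    (hR : H ≤ Subgroup.normalizer (R : Set G)) : H ≤ Subgroup.normalizer ((d2 R : Subgroup G) : Set G) :=
  le_normalizer_commutator (le_normalizer_commutator hR hR) (le_normalizer_commutator hR hR)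

/-- Two normal subgroups mapping onto a group containing the alternating group meet in such a one. -/
theorem alt_le_map_inf (hn : 5 ≤ n) {U : Type*} [Group U] (ψ : U →* Equiv.Perm (Fin n))
    {N M : Subgroup U} [N.Normal] [M.Normal] (hN : alternatingGroup (Fin n) ≤ N.map ψ)
    (hM : alternatingGroup (Fin n) ≤ M.map ψ) : alternatingGroup (Fin n) ≤ (N ⊓ M).map ψ := by
  refine (alt_perfect hn).ge.trans ((Subgroup.commutator_mono hN hM).trans ?_)
  rw [← Subgroup.map_commutator]
  exact Subgroup.map_mono (Subgroup.commutator_le_inf N M)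

open scoped Classical in
theorem alt_le_map_iInf (hn : 5 ≤ n) {U : Type*} [Group U] (ψ : U →* Equiv.Perm (Fin n))
    (hrange : alternatingGroup (Fin n) ≤ ψ.range) {ι : Type*} (N : ι → Subgroup U)
    (hN : ∀ i, (N i).Normal) (hmap : ∀ i, alternatingGroup (Fin n) ≤ (N i).map ψ) (s : Finset ι) :
    (⨅ i ∈ s, N i).Normal ∧ alternatingGroup (Fin n) ≤ (⨅ i ∈ s, N i).map ψ := by
  induction s using Finset.induction_on with
  | empty =>
    simp only [Finset.notMem_empty, not_false_eq_true, iInf_neg, iInf_top, ← MonoidHom.range_eq_map]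
    exact ⟨Subgroup.normal_top, hrange⟩
  | insert a s ha ih =>
    rw [Finset.iInf_insert]
    haveI := hN a
    haveI := ih.1
    exact ⟨inferInstance, alt_le_map_inf hn ψ (hmap a) ih.2⟩

/-- A group with a separating family of normal subgroups of small index has no alternating image. -/
theorem no_alt_image (hn : 5 ≤ n) {U : Type*} [Group U] [Finite U] (ψ : U →* Equiv.Perm (Fin n))
    (hrange : alternatingGroup (Fin n) ≤ ψ.range) {ι : Type*} [Fintype ι] (N : ι → Subgroup U)
    (hN : ∀ i, (N i).Normal) (hidx : ∀ i, (N i).index < Nat.card (alternatingGroup (Fin n)))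
    (hbot : ∀ x, (∀ i, x ∈ N i) → x = 1) : False := by
  have hmap : ∀ i, alternatingGroup (Fin n) ≤ (N i).map ψ := by
    intro i
    refine alt_le_of_normal hn hrange ?_ ?_
    · rintro _ ⟨r, rfl⟩ _ ⟨x, hx, rfl⟩
      exact ⟨r * x * r⁻¹, (hN i).conj_mem x hx r, by simp⟩
    · intro h
      rw [Subgroup.map_eq_bot_iff] at h
      have h1 : ψ.ker.index ≤ (N i).index :=
        Nat.le_of_dvd (Nat.pos_of_ne_zero Subgroup.index_ne_zero_of_finite)
          (Subgroup.index_dvd_of_le h)
      rw [Subgroup.index_ker] at h1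
      have h2 := Subgroup.card_le_of_le hrange
      have := hidx i
      omega
  have h := (alt_le_map_iInf hn ψ hrange N hN hmap Finset.univ).2
  have hb : (⨅ i ∈ (Finset.univ : Finset ι), N i) = ⊥ := (Subgroup.eq_bot_iff_forall _).2 fun x hx =>
    hbot x fun i => by simpa using (Subgroup.mem_iInf.1 (Subgroup.mem_iInf.1 hx i)) (Finset.mem_univ i)
  rw [hb, Subgroup.map_bot, le_bot_iff] at h
  exact alt_not_comm (n := n) (by omega) fun a ha b hb' => by
    rw [h, Subgroup.mem_bot] at ha hb'
    rw [ha, hb']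

end Cfsg.Agent.Lib.Perm.Unfaithful
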