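import Cfsg.Agent.Lib.Perm.Unfaithful.Sides

/-!
# The other kernel is not contained in the first
-/

set_option autoImplicit false

namespace Cfsg.Agent.Lib.Perm.Unfaithful

open Cfsg.Agent.Lib.ThreeTransp.ThompsonWielandt
open scoped Nat

variable {G : Type*} [Group G]

/-- The standing hypotheses on two adjacent point stabilisers. -/
structure Hyp (H K : Subgroup G) (d : ℕ) : Prop where
  ctx : Ctx H K
  iso : Nonempty (↥H ≃* ↥K)
  six : 6 ≤ d
  relH : (H ⊓ K).relIndex H = d
  relK : (H ⊓ K).relIndex K = d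
  fit : ∀ R : Subgroup G, R ≤ H ⊓ K → H ⊓ K ≤ Subgroup.normalizer (R : Set G) → ⁅R, R⁆ = ⊥ → R = ⊥
  second : a2 H K = ⊥ ∨ a2 K H = ⊥

variable {H K : Subgroup G} {d : ℕ}

theorem Hyp.symm (P : Hyp H K d) : Hyp K H d where
  ctx := P.ctx.symm
  iso := ⟨P.iso.some.symm⟩
  six := P.six
  relH := by rw [inf_comm]; exact P.relK
  relK := by rw [inf_comm]; exact P.relH
  fit := by rw [inf_comm]; exact P.fit
  second := P.second.symm

theorem Hyp.fit' (P : Hyp H K d) {R : Subgroup G} (hR : R ≤ H ⊓ K)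
    (hn : H ⊓ K ≤ Subgroup.normalizer (R : Set G)) (h : d2 R = ⊥) : R = ⊥ :=
  P.fit R hR hn (P.fit _ ((Subgroup.commutator_le_self R).trans hR) (le_normalizer_commutator hn hn) h)

theorem conj_normal {U Y : Subgroup G} (h : U ≤ Subgroup.normalizer (Y : Set G)) :
    (Y.subgroupOf U).Normal :=
  ⟨fun y hy u => conj_mem h u.2 hy⟩

/-- No group between the kernels with separated small quotients maps onto the alternating group. -/
theorem no_image_aux [Finite G] (h6 : 6 ≤ d) (SH : Side H K d) (SK : Side K H d) (h2 : a2 H K = ⊥)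
    {U : Subgroup G} (hU : U ≤ H ⊓ K) (hn : H ⊓ K ≤ Subgroup.normalizer (U : Set G))
    (ψ : ↥U →* Equiv.Perm (Fin d)) : ¬ alternatingGroup (Fin d) ≤ ψ.range := by
  intro hψ
  classical
  set K1 := a1 H K with hK1
  have hsmall : (d - 1)! < Nat.card (alternatingGroup (Fin d)) := by
    have h1 := two_mul_card_alt (n := d) (by omega)
    rw [← Nat.mul_factorial_pred (by omega : d ≠ 0)] at h1
    have : 0 < (d - 1)! := Nat.factorial_pos _
    have : 3 * (d - 1)! ≤ d * (d - 1)! := Nat.mul_le_mul_right _ (by omega)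
    omega
  have hXn : H ⊓ K ≤ Subgroup.normalizer (K1 : Set G) := inf_le_left.trans (le_normalizer_hcore _ _)
  -- down to the kernel
  haveI hN0 : (K1.subgroupOf U).Normal := conj_normal (hU.trans hXn)
  have hψ0 : alternatingGroup (Fin d) ≤ (K1.subgroupOf U).map ψ := by
    refine alt_le_of_normal (by omega) hψ ?_ ?_
    · rintro _ ⟨r, rfl⟩ _ ⟨x, hx, rfl⟩
      exact ⟨r * x * r⁻¹, hN0.conj_mem x hx r, by simp⟩
    · intro h
      rw [Subgroup.map_eq_bot_iff] at h
      have h1 : ψ.ker.index ≤ (K1.subgroupOf U).index := Nat.le_of_dvd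
        (Nat.pos_of_ne_zero Subgroup.index_ne_zero_of_finite) (Subgroup.index_dvd_of_le h)
      rw [Subgroup.index_ker] at h1
      have h3 : K1.relIndex U ≤ (d - 1)! :=
        (Subgroup.relIndex_le_of_le_right hU Subgroup.index_ne_zero_of_finite).trans SH.relIndex_a1_le
      have h4 := Subgroup.card_le_of_le hψ
      change _ ≤ K1.relIndex U at h1
      omega
  set V := U ⊓ K1 with hV
  have hV' : V.subgroupOf U = K1.subgroupOf U := by rw [hV, Subgroup.inf_subgroupOf_left]
  haveI : Fintype ↥H := Fintype.ofFinite _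
  let C : ↥H → Subgroup G := fun h => (a1 K H).map (MulAut.conj (h : G)).toMonoidHom
  refine no_alt_image (by omega) (ψ.comp (Subgroup.inclusion (inf_le_left : V ≤ U))) ?_
    (fun h : ↥H => (C h).subgroupOf V) (fun h => ?_) (fun h => ?_) fun x hx => ?_
  · rw [MonoidHom.range_comp, Subgroup.inclusion_range, hV']
    exact hψ0
  · refine conj_normal fun v hv => ?_
    have hvX : (h : G)⁻¹ * v * h ∈ H ⊓ K := by
      refine ⟨H.mul_mem (H.mul_mem (H.inv_mem h.2) (hU hv.1).1) h.2, ?_⟩
      exact a1_le_right H K (by simpa [a1] using conj_mem (le_normalizer_hcore H (H ⊓ K)) (H.inv_mem h.2) hv.2)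
    have hk := Subgroup.mem_normalizer_iff.1 ((inf_le_right.trans (le_normalizer_hcore K (K ⊓ H))) hvX)
    have hmem : ∀ y : G, y ∈ C h ↔ (h : G)⁻¹ * y * h ∈ a1 K H := fun y => by
      constructor
      · rintro ⟨w, hw, rfl⟩
        simpa [mul_assoc] using hw
      · exact fun hy => ⟨_, hy, by simp [mul_assoc]⟩
    refine Subgroup.mem_normalizer_iff.2 fun y => ?_
    show y ∈ C h ↔ v * y * v⁻¹ ∈ C h
    rw [hmem, hmem]
    refine (hk _).trans ?_
    rw [show (h : G)⁻¹ * v * h * ((h : G)⁻¹ * y * h) * ((h : G)⁻¹ * v * h)⁻¹ =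
      (h : G)⁻¹ * (v * y * v⁻¹) * h by group]
    rfl
  · refine lt_of_le_of_lt ?_ hsmall
    have hVle : V ≤ (H ⊓ K).map (MulAut.conj (h : G)).toMonoidHom := fun v hv => by
      refine ⟨(h : G)⁻¹ * v * h, ⟨H.mul_mem (H.mul_mem (H.inv_mem h.2) (hU hv.1).1) h.2, ?_⟩, by simp [mul_assoc]⟩
      exact a1_le_right H K (by simpa [a1] using conj_mem (le_normalizer_hcore H (H ⊓ K)) (H.inv_mem h.2) hv.2)
    refine (Subgroup.relIndex_le_of_le_right hVle Subgroup.index_ne_zero_of_finite).trans ?_
    rw [Subgroup.relIndex_map_map_of_injective _ _ (MulAut.conj (h : G)).injective, inf_comm]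
    exact SK.relIndex_a1_le
  · refine Subtype.ext ((Subgroup.eq_bot_iff_forall _).1 h2 (x : G) (mem_hcore.2 ⟨(hU x.2.1).1, fun g hg => ?_⟩))
    refine ⟨conj_mem (le_normalizer_hcore _ _) hg x.2.2, ?_⟩
    obtain ⟨w, hw, hwe⟩ := hx ⟨g⁻¹, H.inv_mem hg⟩
    have hwe' : g⁻¹ * w * g = (x : G) := by simpa using hwe
    rwa [← hwe', show g * (g⁻¹ * w * g) * g⁻¹ = w by group]

theorem Hyp.no_image [Finite G] (P : Hyp H K d) (SH : Side H K d) (SK : Side K H d)
    {U : Subgroup G} (hU : U ≤ H ⊓ K) (hn : H ⊓ K ≤ Subgroup.normalizer (U : Set G))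
    (ψ : ↥U →* Equiv.Perm (Fin d)) : ¬ alternatingGroup (Fin d) ≤ ψ.range := by
  rcases P.second with h | h
  · exact no_image_aux P.six SH SK h hU hn ψ
  · exact no_image_aux P.six SK SH h (by rwa [inf_comm]) (by rwa [inf_comm]) ψ

/-- A subgroup of the intersection normalised by `K` corresponds to one inside the kernel at `H`. -/
theorem Hyp.exists_pullback [Finite G] (P : Hyp H K d) (SH : Side H K d) (SK : Side K H d)
    (hB : SH.Big) {U : Subgroup G} (hU : U ≤ H ⊓ K) (hn : K ≤ Subgroup.normalizer (U : Set G)) :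
    ∃ N : Subgroup G, H ≤ Subgroup.normalizer (N : Set G) ∧ N ≤ a1 H K ∧
      Nat.card N = Nat.card U ∧ N.relIndex H = U.relIndex K ∧ Nat.card (d2 N : Subgroup G) = Nat.card (d2 U : Subgroup G) := by
  obtain ⟨e⟩ := P.iso
  set N0 : Subgroup ↥H := (U.subgroupOf K).comap e.toMonoidHom with hN0
  haveI : (U.subgroupOf K).Normal := conj_normal hn
  haveI hN0n : N0.Normal := Subgroup.Normal.comap inferInstance _
  set N := N0.map H.subtype with hNdef
  have hUK : U ≤ K := hU.trans inf_le_right
  have hNH : N ≤ H := Subgroup.map_subtype_le _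
  have hmap : N0.map e.toMonoidHom = U.subgroupOf K :=
    Subgroup.map_comap_eq_self_of_surjective e.surjective _
  have hnorm : H ≤ Subgroup.normalizer (N : Set G) := by
    refine le_normalizer_of_conj_mem fun x hx w hw => ?_
    obtain ⟨w', hw', rfl⟩ := hw
    exact ⟨⟨x, hx⟩ * w' * ⟨x, hx⟩⁻¹, hN0n.conj_mem w' hw' _, by simp⟩
  refine ⟨N, hnorm, ?_, ?_, ?_, ?_⟩
  · intro w hw
    obtain ⟨w', hw', rfl⟩ := hw
    refine (SH.ker w').1 ?_
    by_contra hne
    have hA : alternatingGroup (Fin d) ≤ N0.map SH.act := by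
      refine alt_le_of_normal (by have := P.six; omega) hB ?_ fun h => hne ?_
      · rintro _ ⟨r, rfl⟩ _ ⟨x, hx, rfl⟩
        exact ⟨r * x * r⁻¹, hN0n.conj_mem x hx r, by simp⟩
      · exact Subgroup.mem_bot.1 (h ▸ Subgroup.mem_map_of_mem SH.act hw')
    refine P.no_image SH SK hU (inf_le_right.trans hn)
      ((SH.act.comp e.symm.toMonoidHom).comp (Subgroup.inclusion hUK)) (hA.trans ?_)
    rintro _ ⟨x, hx, rfl⟩
    refine ⟨⟨(e x : G), hx⟩, ?_⟩
    show SH.act (e.symm (e x)) = SH.act x
    rw [e.symm_apply_apply]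
  · rw [hNdef, Subgroup.card_map_of_injective Subtype.val_injective,
      ← Subgroup.card_map_of_injective (f := e.toMonoidHom) e.injective, hmap,
      Nat.card_congr (Subgroup.subgroupOfEquivOfLe hUK).toEquiv]
  · rw [Subgroup.relIndex, Subgroup.relIndex, hNdef, Subgroup.subgroupOf,
      Subgroup.comap_map_eq_self_of_injective Subtype.val_injective, hN0,
      Subgroup.index_comap_of_surjective _ e.surjective]
  · rw [hNdef, ← d2_map, Subgroup.card_map_of_injective Subtype.val_injective,
      ← Subgroup.card_map_of_injective (f := e.toMonoidHom) e.injective, d2_map, hmap,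
      ← Subgroup.card_map_of_injective (f := K.subtype) Subtype.val_injective, d2_map,
      Subgroup.map_subgroupOf_eq_of_le hUK]

theorem Hyp.card_a1_le [Finite G] (P : Hyp H K d) (SH : Side H K d) (SK : Side K H d) (hB : SH.Big) :
    Nat.card (a1 K H) ≤ Nat.card (a1 H K) := by
  obtain ⟨N, -, hN, hc, -⟩ := P.exists_pullback SH SK hB
    (le_inf (a1_le_right K H) (a1_le_left K H)) (le_normalizer_hcore _ _)
  exact hc ▸ Subgroup.card_le_of_le hN

/-- The other kernel moves a point, and the other suborbit action is big as well. -/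
theorem Hyp.not_le_and_big [Finite G] (P : Hyp H K d) (SH : Side H K d) (SK : Side K H d) (hB : SH.Big)
    (hne : a1 H K ≠ ⊥) : ¬ a1 K H ≤ a1 H K ∧ SK.Big := by
  classical
  set K1 := a1 H K with hK1
  set K2 := a1 K H with hK2
  have h6 := P.six
  have hXK2 : H ⊓ K ≤ Subgroup.normalizer (K2 : Set G) := inf_le_right.trans (le_normalizer_hcore _ _)
  have hK2X : K2 ≤ H ⊓ K := le_inf (a1_le_right K H) (a1_le_left K H)
  have hK1X : K1 ≤ H ⊓ K := le_inf (a1_le_left H K) (a1_le_right H K)
  have hf : d ! = d * (d - 1)! := (Nat.mul_factorial_pred (by omega)).symm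
  have h5 : 120 ≤ (d - 1)! := (show (5)! ≤ (d - 1)! from Nat.factorial_le (by omega))
  have hnot : ¬ K2 ≤ K1 := by
    intro hle
    have hlt : Nat.card K2 < Nat.card K1 := lt_of_le_of_ne (Subgroup.card_le_of_le hle) fun h => hne (by
      have h' : K2 = K1 := Subgroup.eq_of_le_of_card_ge hle h.ge
      refine P.ctx.eq_bot_of_normalized (a1_le_left H K) (le_normalizer_hcore _ _) ?_
      rw [← h']
      exact le_normalizer_hcore _ _)
    obtain ⟨N, -, hN, hc, hrel, -⟩ := P.exists_pullback SH SK hB hK2X (le_normalizer_hcore _ _)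
    have h1 : K2.relIndex K = N.relIndex K1 * Nat.card SH.act.range := by
      rw [← hrel, SH.card_range_act, Subgroup.relIndex_mul_relIndex _ _ _ hN (a1_le_left H K)]
    have h2 : K2.relIndex K ≤ d ! := by
      rw [hK2, ← SK.card_range_act]
      refine (Nat.le_of_dvd Nat.card_pos (Subgroup.card_subgroup_dvd_card _)).trans ?_
      rw [Nat.card_perm, Nat.card_fin]
    have h3 := card_ge_of_alt_le (by omega) hB
    have h4 : Nat.card N * N.relIndex K1 = Nat.card K1 := by
      rw [← Subgroup.relIndex_bot_left, ← Subgroup.relIndex_bot_left]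
      exact Subgroup.relIndex_mul_relIndex _ _ _ bot_le hN
    have h7 : N.relIndex K1 = 2 ∧ K2.relIndex K = d ! := by
      have h8 : 2 ≤ N.relIndex K1 := by
        by_contra h9
        interval_cases hh : N.relIndex K1 <;> rw [hc] at h4 <;> omega
      have h9 : N.relIndex K1 ≤ 2 := by
        by_contra h10
        have h11 : 3 * Nat.card SH.act.range ≤ K2.relIndex K :=
          h1 ▸ Nat.mul_le_mul_right _ (by omega)
        have : 0 < Nat.card SH.act.range := Nat.card_pos
        omega
      have h12 : N.relIndex K1 = 2 := le_antisymm h9 h8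
      rw [h12] at h1
      omega
    have hrk : Nat.card SK.rho.range = (d - 1)! := by
      have h13 := SK.rel_a1 P.symm.relH
      rw [SK.card_range_act, h7.2, hf] at h13
      exact (Nat.eq_of_mul_eq_mul_left (by omega : 0 < d) (h13.trans (mul_comm _ _))).symm
    have hK1img : Nat.card (SK.img K1) = K2.relIndex K1 := by
      have hK1X' : K1 ≤ K ⊓ H := by rw [inf_comm]; exact hK1X
      let g : ↥K1 →* Equiv.Perm (Fin (d - 1)) := SK.rho.comp (Subgroup.inclusion hK1X')
      have hg : g.range = SK.img K1 := by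
        rw [MonoidHom.range_comp, Subgroup.inclusion_range]; rfl
      rw [← hg, ← Subgroup.index_ker, Subgroup.relIndex]
      congr 1
      ext x
      exact SK.rho_eq_one _
    have hidx : K2.relIndex K1 = 2 := by
      have h14 : Nat.card K2 * K2.relIndex K1 = Nat.card K1 := by
        rw [← Subgroup.relIndex_bot_left, ← Subgroup.relIndex_bot_left]
        exact Subgroup.relIndex_mul_relIndex _ _ _ bot_le hle
      rw [← h4, hc, h7.1] at h14
      exact Nat.eq_of_mul_eq_mul_left Nat.card_pos h14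
    rw [hidx] at hK1img
    have hA := alt_le_of_normal (n := d - 1) (by omega) (alt_le_of_card (by omega) (by rw [hrk]; omega))
      (SK.img_conj (R := K1) (by rw [inf_comm]; exact inf_le_left.trans (le_normalizer_hcore _ _)))
      (fun h => by rw [h, Subgroup.card_bot] at hK1img; omega)
    have := card_ge_of_alt_le (by omega) hA
    omega
  refine ⟨hnot, ?_⟩
  have hA : alternatingGroup (Fin (d - 1)) ≤ SH.img K2 :=
    alt_le_of_normal (by omega) (SH.big_alt h6 P.relH hB) (SH.img_conj hXK2)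
      (fun h => hnot ((SH.img_eq_bot_iff hK2X).1 h))
  have hc1 : Nat.card (SH.img K2) = K1.relIndex K2 := by
    let g : ↥K2 →* Equiv.Perm (Fin (d - 1)) := SH.rho.comp (Subgroup.inclusion hK2X)
    have hg : g.range = SH.img K2 := by
      rw [MonoidHom.range_comp, Subgroup.inclusion_range]; rfl
    rw [← hg, ← Subgroup.index_ker, Subgroup.relIndex]
    congr 1
    ext x
    exact SH.rho_eq_one _
  rw [SK.big_iff h6 P.symm.relH, SK.card_range_rho, ← hK2]
  have hle := P.card_a1_le SH SK hB
  have e1 : Nat.card ↥(K1 ⊓ K2) * K2.relIndex K1 = Nat.card K1 := by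
    rw [← Subgroup.inf_relIndex_left, ← Subgroup.relIndex_bot_left, ← Subgroup.relIndex_bot_left,
      inf_comm K1 K2]
    exact Subgroup.relIndex_mul_relIndex _ _ _ bot_le inf_le_right
  have e2 : Nat.card ↥(K1 ⊓ K2) * K1.relIndex K2 = Nat.card K2 := by
    rw [← Subgroup.inf_relIndex_right K1 K2, ← Subgroup.relIndex_bot_left, ← Subgroup.relIndex_bot_left]
    exact Subgroup.relIndex_mul_relIndex _ _ _ bot_le inf_le_right
  have e3 : K1.relIndex K2 ≤ K2.relIndex K1 :=
    Nat.le_of_mul_le_mul_left (by rw [e2, e1]; exact hle) Nat.card_pos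
  have h5 := card_ge_of_alt_le (by omega) hA
  rw [hc1] at h5
  have h6' : K2.relIndex K1 ≤ K2.relIndex (K ⊓ H) :=
    Subgroup.relIndex_le_of_le_right (by rw [inf_comm]; exact hK1X) Subgroup.index_ne_zero_of_finite
  omega

end Cfsg.Agent.Lib.Perm.Unfaithful
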