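import Cfsg.Agent.Lib.Perm.Unfaithful.Counting

/-!
# The two kernels meet trivially
-/

set_option autoImplicit false

namespace Cfsg.Agent.Lib.Perm.Unfaithful

open Cfsg.Agent.Lib.ThreeTransp.ThompsonWielandt

variable {G : Type*} [Group G]

/-- The conjugate subgroup. -/
def cjS (g : G) (R : Subgroup G) : Subgroup G := R.map (MulAut.conj g).toMonoidHom

theorem mem_cjS {g : G} {R : Subgroup G} {x : G} : x ∈ cjS g R ↔ g⁻¹ * x * g ∈ R := by
  constructor
  · rintro ⟨y, hy, rfl⟩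
    simpa [mul_assoc] using hy
  · exact fun h => ⟨_, h, by simp [mul_assoc]⟩

theorem cjS_d2 (g : G) (R : Subgroup G) : cjS g (d2 R) = d2 (cjS g R) := d2_map _ _

theorem cjS_mono (g : G) {R R' : Subgroup G} (h : R ≤ R') : cjS g R ≤ cjS g R' := Subgroup.map_mono h

theorem cjS_card (g : G) (R : Subgroup G) : Nat.card (cjS g R) = Nat.card R :=
  Subgroup.card_map_of_injective (MulAut.conj g).injective

theorem mem_normalizer_of_cjS_le [Finite G] {g : G} {R : Subgroup G} (h : cjS g R ≤ R) :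
    g ∈ Subgroup.normalizer (R : Set G) := by
  have e : cjS g R = R := Subgroup.eq_of_le_of_card_ge h (cjS_card g R).ge
  refine Subgroup.mem_normalizer_iff.2 fun y => ⟨fun hy => h ⟨y, hy, by simp⟩, fun hy => ?_⟩
  rw [← e, mem_cjS] at hy
  simpa [mul_assoc] using hy

theorem cjS_le_of_mem_normalizer {g : G} {R : Subgroup G} (h : g ∈ Subgroup.normalizer (R : Set G)) :
    cjS g R ≤ R := by
  rintro _ ⟨y, hy, rfl⟩
  simpa using (Subgroup.mem_normalizer_iff.1 h y).1 hy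

variable {H K : Subgroup G} {d : ℕ}

set_option maxHeartbeats 1000000 in
open scoped Classical in
/-- **The kernels meet trivially.** -/
theorem Hyp.inf_eq_bot_aux [Finite G] (P : Hyp H K d) (SH : Side H K d) (SK : Side K H d)
    (hBH : SH.Big) (hBK : SK.Big) (h12 : ¬ a1 H K ≤ a1 K H) (h21 : ¬ a1 K H ≤ a1 H K)
    (h2 : a2 H K = ⊥) : a1 H K ⊓ a1 K H = ⊥ := by
  have h6 := P.six
  set K1 := a1 H K with hK1def
  set K2 := a1 K H with hK2def
  set J := K1 ⊓ K2 with hJdef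
  set A := alternatingGroup (Fin (d - 1)) with hA
  have hAne : A ≠ ⊥ := fun h => alt_not_comm (n := d - 1) (by omega) fun a ha b hb => by
    rw [← hA, h, Subgroup.mem_bot] at ha hb
    rw [ha, hb]
  have hK1X : K1 ≤ H ⊓ K := le_inf (a1_le_left H K) (a1_le_right H K)
  have hK1X' : K1 ≤ K ⊓ H := by rw [inf_comm]; exact hK1X
  have hK2X : K2 ≤ H ⊓ K := le_inf (a1_le_right K H) (a1_le_left K H)
  have hHK1 : H ≤ Subgroup.normalizer (K1 : Set G) := le_normalizer_hcore _ _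
  have hXJ : H ⊓ K ≤ Subgroup.normalizer (J : Set G) :=
    le_normalizer_inf (inf_le_left.trans hHK1) (inf_le_right.trans (le_normalizer_hcore _ _))
  set P1 := d2 K1 with hP1def
  have hP1K1 : P1 ≤ K1 := d2_le _
  have hHP1 : H ≤ Subgroup.normalizer (P1 : Set G) := le_normalizer_d2 hHK1
  have hrange : alternatingGroup (Fin (d - 1)) ≤ SK.rho.range := SK.big_alt h6 P.symm.relH hBK
  have himgK1 : A ≤ SK.img K1 := alt_le_of_normal (by omega) hrange
    (SK.img_conj (by rw [inf_comm]; exact inf_le_left.trans hHK1)) fun h => h12 ((SK.img_eq_bot_iff hK1X').1 h)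
  have himgP1 : SK.img P1 = A := by
    rw [SK.img_d2 hK1X']
    exact d2_alt (by omega) himgK1
  have hP1X' : P1 ≤ K ⊓ H := hP1K1.trans hK1X'
  set S := P1 ⊓ J with hSdef
  have hXS : H ⊓ K ≤ Subgroup.normalizer (S : Set G) := le_normalizer_inf (inf_le_left.trans hHP1) hXJ
  by_cases hcase : ∃ y ∈ H, y ∉ K ∧ y ∈ Subgroup.normalizer (S : Set G)
  · obtain ⟨y, hyH, hyK, hyS⟩ := hcase
    have hHS := SH.maximal h6 hBH hXS hyS hyH hyK
    have hSJ : S ≤ J := inf_le_right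
    have hS : S = ⊥ := le_bot_iff.1 (h2 ▸ le_hcore (hSJ.trans (inf_le_left.trans (a1_le_left H K))) hSJ hHS)
    refine P.fit' (inf_le_left.trans hK1X) hXJ (le_bot_iff.1 (hS ▸ ?_))
    exact le_inf (d2_mono inf_le_left) (d2_le J)
  push Not at hcase
  exfalso
  set T := P1 ⊓ ⨅ h : {h : ↥H // (h : G) ∉ K}, cjS (h.1 : G) J with hTdef
  have hTmem : ∀ {x : G}, x ∈ T ↔ x ∈ P1 ∧ ∀ h ∈ H, h ∉ K → h⁻¹ * x * h ∈ J := by
    intro x
    rw [hTdef, Subgroup.mem_inf, Subgroup.mem_iInf]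
    exact and_congr_right fun _ => ⟨fun h a ha hK => mem_cjS.1 (h ⟨⟨a, ha⟩, hK⟩),
      fun h a => mem_cjS.2 (h _ a.1.2 a.2)⟩
  have hTP : T ≤ P1 := inf_le_left
  have hXT : H ⊓ K ≤ Subgroup.normalizer (T : Set G) := by
    refine le_normalizer_of_conj_mem fun x hx w hw => ?_
    rw [hTmem] at hw ⊢
    refine ⟨conj_mem hHP1 hx.1 hw.1, fun h hh hK => ?_⟩
    have := hw.2 (x⁻¹ * h) (H.mul_mem (H.inv_mem hx.1) hh) fun h' => hK (by
      simpa using K.mul_mem hx.2 h')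
    simpa [mul_assoc] using this
  -- the part over one point
  have himgT : SK.img T = A := by
    refine le_antisymm (himgP1 ▸ SK.img_mono hTP) ?_
    haveI : Fintype {h : ↥H // (h : G) ∉ K} := Fintype.ofFinite _
    let ψ : ↥P1 →* Equiv.Perm (Fin (d - 1)) := SK.rho.comp (Subgroup.inclusion hP1X')
    have hψ : ∀ R : Subgroup G, R ≤ P1 → (R.subgroupOf P1).map ψ = SK.img R := by
      intro R hR
      ext σ
      rw [SK.mem_img, Subgroup.mem_map]
      refine ⟨fun ⟨x, hx, e⟩ => ⟨_, (Subgroup.mem_subgroupOf.1 hx), e⟩, fun ⟨x, hx, e⟩ => ⟨⟨(x : G), hR hx⟩, (Subgroup.mem_subgroupOf.2 hx), e⟩⟩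
    have hψA : A ≤ ψ.range := by
      rw [MonoidHom.range_eq_map, ← Subgroup.subgroupOf_self, hψ P1 le_rfl, himgP1]
    let Nf : {h : ↥H // (h : G) ∉ K} → Subgroup ↥P1 := fun h => (cjS (h.1 : G) J).subgroupOf P1
    have hNn : ∀ h, (Nf h).Normal := fun h => conj_normal (by
      refine le_normalizer_of_conj_mem fun v hv w hw => ?_
      rw [mem_cjS] at hw ⊢
      have hv' : (h.1 : G)⁻¹ * v * h.1 ∈ H ⊓ K := hK1X (by
        simpa using conj_mem hHK1 (H.inv_mem h.1.2) (hP1K1 hv))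
      have := conj_mem hXJ hv' hw
      simpa [mul_assoc] using this)
    have hNA : ∀ h, A ≤ (Nf h).map ψ := by
      intro h
      have := hNn h
      refine alt_le_of_normal (by omega) hψA ?_ fun hb => hcase _ h.1.2 h.2 ?_
      · rintro _ ⟨r, rfl⟩ _ ⟨x, hx, rfl⟩
        exact ⟨r * x * r⁻¹, this.conj_mem x hx r, by simp⟩
      · refine mem_normalizer_of_cjS_le fun x hx => ?_
        obtain ⟨hx1, hx2⟩ := (mem_cjS.1 hx : (h.1 : G)⁻¹ * x * h.1 ∈ S)
        have hxP : x ∈ P1 := by simpa [mul_assoc] using conj_mem hHP1 h.1.2 hx1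
        refine ⟨hxP, hP1K1 hxP, ?_⟩
        have h3 : ψ ⟨x, hxP⟩ = 1 := Subgroup.mem_bot.1 (hb ▸ Subgroup.mem_map_of_mem ψ
          (show (⟨x, hxP⟩ : ↥P1) ∈ Nf h from mem_cjS.2 hx2))
        exact (SK.rho_eq_one _).1 h3
    refine (alt_le_map_iInf (by omega) ψ hψA Nf hNn hNA Finset.univ).2.trans ?_
    rintro _ ⟨x, hx, rfl⟩
    refine SK.mem_img.2 ⟨Subgroup.inclusion hP1X' x, ⟨x.2, Subgroup.mem_iInf.2 fun h => ?_⟩, rfl⟩
    exact (Subgroup.mem_iInf.1 (Subgroup.mem_iInf.1 hx h) (Finset.mem_univ h) : x ∈ Nf h)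
  have hTK2 : ∀ x ∈ T, x ∈ K2 → x = 1 := by
    intro x hxT hx2
    refine Subgroup.mem_bot.1 (h2 ▸ mem_hcore.2 ⟨(hK1X (hP1K1 (hTP hxT))).1, fun g hg => ?_⟩)
    refine ⟨conj_mem hHK1 hg (hP1K1 (hTP hxT)), ?_⟩
    by_cases hgK : g ∈ K
    · exact conj_mem (le_normalizer_hcore _ _) hgK hx2
    · have := (hTmem.1 hxT).2 g⁻¹ (H.inv_mem hg) fun h => hgK (by simpa using K.inv_mem h)
      rw [inv_inv] at this
      exact this.2
  have hTinj : ∀ x y : ↥(K ⊓ H), (x : G) ∈ T → (y : G) ∈ T → SK.rho x = SK.rho y → x = y := by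
    intro x y hx hy hxy
    refine mul_inv_eq_one.1 (Subtype.ext (hTK2 _ (T.mul_mem hx (T.inv_mem hy)) ?_))
    exact (SK.rho_eq_one (x * y⁻¹)).1 (by rw [map_mul, map_inv, hxy, mul_inv_cancel])
  have hTX' : T ≤ K ⊓ H := hTP.trans hP1X'
  have hTeq : ∀ {R : Subgroup G}, R ≤ T → A ≤ SK.img R → T ≤ R := by
    intro R hR hAR x hx
    obtain ⟨y, hy, hye⟩ := SK.mem_img.1 (hAR (himgT ▸ SK.mem_img.2 ⟨⟨x, hTX' hx⟩, hx, rfl⟩))
    have h := hTinj y ⟨x, hTX' hx⟩ (hR hy) hx hye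
    have h' : (y : G) = x := congrArg Subtype.val h
    exact h' ▸ hy
  have hTd2 : d2 T = T := le_antisymm (d2_le T) (hTeq (d2_le T) (by
    rw [SK.img_d2 hTX', himgT]; exact (d2_alt (by omega) le_rfl).ge))
  have hTJ : ∀ c ∈ H, c ∉ K → cjS c T ≤ J := by
    intro c hc hcK x hx
    have := (hTmem.1 (mem_cjS.1 hx)).2 c⁻¹ (H.inv_mem hc) fun h => hcK (by simpa using K.inv_mem h)
    simpa [mul_assoc] using this
  have hTnorm : ∀ h ∈ H, h ∈ Subgroup.normalizer (T : Set G) → h ∈ K := by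
    intro h hh hn
    by_contra hK
    refine hAne (himgT ▸ (SK.img_eq_bot_iff hTX').2 fun x hx => ?_)
    have h1 : x ∈ cjS h T := mem_cjS.2 (by
      simpa using (Subgroup.mem_normalizer_iff.1 (Subgroup.inv_mem _ hn) x).1 hx)
    exact (hTJ h hh hK h1).2
  -- the conjugates generate
  set Q := ⨆ c : ↥H, cjS (c : G) T with hQdef
  have hQP : Q ≤ P1 := iSup_le fun c => (cjS_mono _ hTP).trans (cjS_le_of_mem_normalizer (hHP1 c.2))
  have hPQ : P1 ≤ Q := by
    haveI : Fintype ↥H := Fintype.ofFinite _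
    intro p hp
    have key : ∀ s : Finset ↥H, ∃ q ∈ Q, ∀ h ∈ s, (h : G)⁻¹ * (p * q⁻¹) * h ∈ K2 := by
      intro s
      induction s using Finset.induction_on with
      | empty => exact ⟨1, one_mem _, by simp⟩
      | insert h s hs ih =>
        obtain ⟨q, hq, hqs⟩ := ih
        set r := p * q⁻¹ with hr
        have hrP : r ∈ P1 := P1.mul_mem hp (P1.inv_mem (hQP hq))
        have hr' : (h : G)⁻¹ * r * h ∈ P1 := by simpa using conj_mem hHP1 (H.inv_mem h.2) hrP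
        obtain ⟨w, hw, hwe⟩ := SK.mem_img.1 (himgT.ge.trans le_rfl
          (himgP1.le (SK.mem_img.2 ⟨⟨_, hP1X' hr'⟩, hr', rfl⟩)))
        set u := (h : G) * w * (h : G)⁻¹ with hu
        have huT : u ∈ cjS (h : G) T := mem_cjS.2 (by simpa [hu, mul_assoc] using hw)
        refine ⟨u * q, Q.mul_mem (le_iSup (fun c : ↥H => cjS (c : G) T) h huT) hq, fun g hg => ?_⟩
        have e1 : p * (u * q)⁻¹ = r * u⁻¹ := by simp [hr, mul_assoc]
        rw [e1]
        have hnew : (h : G)⁻¹ * (r * u⁻¹) * h ∈ K2 := by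
          have h3 := (SK.rho_eq_one (⟨_, hP1X' hr'⟩ * w⁻¹)).1 (by rw [map_mul, map_inv, hwe, mul_inv_cancel])
          simpa [hu, mul_assoc] using h3
        rcases Finset.mem_insert.1 hg with rfl | hg'
        · exact hnew
        by_cases hK : (g : G)⁻¹ * h ∈ K
        · have h4 := conj_mem (le_normalizer_hcore K (K ⊓ H)) hK hnew
          simpa [mul_assoc, hK2def, a1] using h4
        · have h5 : (g : G)⁻¹ * u * g ∈ J := hTJ ((g : G)⁻¹ * h) (H.mul_mem (H.inv_mem g.2) h.2) hK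
            (mem_cjS.2 (by simpa [hu, mul_assoc] using hw))
          have h7 := K2.mul_mem (hqs g hg') (K2.inv_mem h5.2)
          simpa [mul_assoc] using h7
    obtain ⟨q, hq, hqall⟩ := key Finset.univ
    have h1 : p * q⁻¹ = 1 := Subgroup.mem_bot.1 (h2 ▸ mem_hcore.2
      ⟨(hK1X (hP1K1 (P1.mul_mem hp (P1.inv_mem (hQP hq))))).1, fun g hg =>
        ⟨conj_mem hHK1 hg (hP1K1 (P1.mul_mem hp (P1.inv_mem (hQP hq)))), by
          simpa using hqall (⟨g, hg⟩⁻¹ : ↥H) (Finset.mem_univ _)⟩⟩)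
    rw [mul_inv_eq_one.1 h1]
    exact hq
  have hP1d2 : P1 ≤ d2 P1 := hPQ.trans (iSup_le fun c => by
    conv_lhs => rw [← hTd2, cjS_d2]
    exact d2_mono ((le_iSup (fun c : ↥H => cjS (c : G) T) c).trans hQP))
  -- the other second core
  have hM : a2 K H = ⊥ := by
    by_contra hMne
    have hMJ : a2 K H ≤ J := (a2_le_D K H).trans (le_of_eq (inf_comm _ _))
    obtain ⟨N, hHN, hNK1, hNc, -, hNd⟩ := P.exists_pullback SH SK hBH
      (hMJ.trans (inf_le_left.trans hK1X)) (le_normalizer_a2 _ _)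
    by_cases hR : ⁅N, P1⁆ = ⊥
    · have hN0 : N = ⊥ := P.fit' (hNK1.trans hK1X) (inf_le_left.trans hHN)
        (P.fit _ (((d2_le N).trans hNK1).trans hK1X) (le_normalizer_d2 (inf_le_left.trans hHN))
          (le_bot_iff.1 (hR ▸ Subgroup.commutator_mono (d2_le N) (d2_mono hNK1))))
      rw [hN0, Subgroup.card_bot] at hNc
      exact hMne (Subgroup.card_eq_one.1 hNc.symm)
    · set R := ⁅N, P1⁆ with hRdef
      have hHR : H ≤ Subgroup.normalizer (R : Set G) := le_normalizer_commutator hHN hHP1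
      have hP1H : P1 ≤ H := hP1K1.trans (a1_le_left H K)
      have hRN : R ≤ N := comm_le_left (hP1H.trans hHN)
      have hRP : R ≤ P1 := comm_le_right ((hNK1.trans (a1_le_left H K)).trans hHP1)
      have hRK2 : ¬ R ≤ K2 := fun h => hR (le_bot_iff.1 (h2 ▸ le_hcore (hRP.trans hP1H)
        (le_inf (hRP.trans hP1K1) h) hHR))
      have hAR : A ≤ SK.img R := alt_le_of_normal (by omega) hrange
        (SK.img_conj (by rw [inf_comm]; exact inf_le_left.trans hHR))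
        fun h => hRK2 ((SK.img_eq_bot_iff (hRP.trans hP1X')).1 h)
      have hcomm : ⁅R, T⁆ ≤ R ⊓ T := le_inf (comm_le_left ((hTP.trans hP1H).trans hHR))
        (comm_le_right ((hRP.trans (hP1K1.trans hK1X)).trans hXT))
      have hAI : A ≤ SK.img (R ⊓ T) := by
        refine le_trans ?_ (SK.img_mono hcomm)
        have e : SK.img ⁅R, T⁆ = ⁅SK.img R, SK.img T⁆ := by
          unfold Side.img
          rw [← Subgroup.map_commutator]
          congr 1
          apply Subgroup.map_injective (f := (K ⊓ H).subtype) Subtype.val_injective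
          rw [Subgroup.map_commutator, Subgroup.map_subgroupOf_eq_of_le (hRP.trans hP1X'),
            Subgroup.map_subgroupOf_eq_of_le hTX',
            Subgroup.map_subgroupOf_eq_of_le (hcomm.trans (inf_le_right.trans hTX'))]
        rw [e, himgT]
        exact (alt_perfect (by omega)).ge.trans (Subgroup.commutator_mono hAR le_rfl)
      have hTR : T ≤ R := (hTeq inf_le_right hAI).trans inf_le_left
      have hP1N : P1 ≤ N := (hPQ.trans (iSup_le fun c =>
        (cjS_mono _ hTR).trans (cjS_le_of_mem_normalizer (hHR c.2)))).trans hRN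
      have hcard : Nat.card P1 ≤ Nat.card S := by
        refine (Subgroup.card_le_of_le (hP1d2.trans (d2_mono hP1N))).trans ?_
        rw [hNd]
        exact Subgroup.card_le_of_le (le_inf (d2_mono (hMJ.trans inf_le_left)) ((d2_le _).trans hMJ))
      have hPS : P1 ≤ K2 := by
        rw [← Subgroup.eq_of_le_of_card_ge (inf_le_left : S ≤ P1) hcard]
        exact inf_le_right.trans inf_le_right
      exact hAne (himgP1 ▸ (SK.img_eq_bot_iff hP1X').2 hPS)
  -- a conjugate inside both kernels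
  obtain ⟨c, hcH, hcK⟩ : ∃ c ∈ H, c ∉ K := by
    haveI : Nontrivial (Fin d) := Fin.nontrivial_iff_two_le.2 (by omega)
    obtain ⟨i, hi⟩ := exists_ne SH.pt
    obtain ⟨h, hh⟩ := SH.trans i
    exact ⟨h, h.2, fun hK => hi (hh ▸ (SH.stab h).2 hK)⟩
  set T' := cjS c T with hT'def
  have hT'J : T' ≤ J := hTJ c hcH hcK
  have hT'd2 : d2 T' = T' := by rw [hT'def, ← cjS_d2, hTd2]
  set P2 := d2 K2 with hP2def
  have hT'P2 : T' ≤ P2 := hT'd2.ge.trans (d2_mono (hT'J.trans inf_le_right))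
  have hK2J : K2 ≤ Subgroup.normalizer (J : Set G) := hK2X.trans hXJ
  have hJT' : J ≤ Subgroup.normalizer (T' : Set G) := by
    refine le_normalizer_of_conj_mem fun v hv w hw => ?_
    rw [hT'def, mem_cjS] at hw ⊢
    have hv' : c⁻¹ * v * c ∈ H ⊓ K := hK1X (by simpa using conj_mem hHK1 (H.inv_mem hcH) hv.1)
    have := conj_mem hXT hv' hw
    simpa [mul_assoc] using this
  obtain ⟨g, hg, hgT⟩ : ∃ g ∈ K, ¬ T' ≤ cjS g K1 := by
    by_contra hno
    push Not at hno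
    refine hAne (himgT ▸ (SK.img_eq_bot_iff hTX').2 fun x hx => ?_)
    have hcx : c * x * c⁻¹ = 1 := Subgroup.mem_bot.1 (hM ▸ mem_hcore.2
      ⟨(hK2X (hT'J ⟨x, hx, rfl⟩).2).2, fun k hk => ⟨conj_mem (le_normalizer_hcore _ _) hk (hT'J ⟨x, hx, rfl⟩).2, by
        simpa using mem_cjS.1 (hno k⁻¹ (K.inv_mem hk) ⟨x, hx, rfl⟩)⟩⟩)
    rw [conj_eq_one_iff.1 hcx]
    exact K2.one_mem
  have hgK2 : ∀ y ∈ K2, g⁻¹ * y * g ∈ K2 := fun y hy => by
    simpa [hK2def, a1] using conj_mem (le_normalizer_hcore K (K ⊓ H)) (K.inv_mem hg) hy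
  have hgK2' : ∀ y ∈ K2, g * y * g⁻¹ ∈ K2 := fun y hy => conj_mem (le_normalizer_hcore K (K ⊓ H)) hg hy
  let ψ : ↥K2 →* Equiv.Perm (Fin (d - 1)) :=
    { toFun := fun y => SH.rho ⟨g⁻¹ * y * g, hK2X (hgK2 y y.2)⟩
      map_one' := by
        rw [← map_one SH.rho]; congr 1; exact Subtype.ext (by simp)
      map_mul' := fun y y' => by
        rw [← map_mul]; congr 1; exact Subtype.ext (by simp [mul_assoc]) }
  have himgK2 : A ≤ SH.img K2 := alt_le_of_normal (by omega) (SH.big_alt h6 P.relH hBH)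
    (SH.img_conj (inf_le_right.trans (le_normalizer_hcore _ _)))
    fun h => h21 ((SH.img_eq_bot_iff hK2X).1 h)
  have hψA : A ≤ ψ.range := fun σ hσ => by
    obtain ⟨x, hx, rfl⟩ := SH.mem_img.1 (himgK2 hσ)
    refine ⟨⟨g * x * g⁻¹, hgK2' _ hx⟩, ?_⟩
    show SH.rho _ = SH.rho x
    congr 1
    exact Subtype.ext (by simp [mul_assoc])
  have hψne : ∀ R : Subgroup G, T' ≤ R → (R.subgroupOf K2).map ψ ≠ ⊥ := by
    intro R hR hb
    refine hgT fun x hx => mem_cjS.2 ?_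
    exact (SH.rho_eq_one _).1 (Subgroup.mem_bot.1 (hb ▸ Subgroup.mem_map_of_mem ψ
      (show (⟨x, (hT'J hx).2⟩ : ↥K2) ∈ R.subgroupOf K2 from hR hx)))
  have hψJ : A ≤ (J.subgroupOf K2).map ψ := by
    refine alt_le_of_normal (by omega) hψA ?_ (hψne J hT'J)
    rintro _ ⟨r, rfl⟩ _ ⟨x, hx, rfl⟩
    exact ⟨r * x * r⁻¹, (conj_normal hK2J).conj_mem x hx r, by simp⟩
  have hψT : A ≤ (T'.subgroupOf K2).map ψ := by
    refine alt_le_of_normal (by omega) hψJ ?_ (hψne T' le_rfl)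
    rintro _ ⟨r, hr, rfl⟩ _ ⟨x, hx, rfl⟩
    exact ⟨r * x * r⁻¹, conj_mem hJT' hr hx, by simp⟩
  have hnorm : P2 ≤ Subgroup.normalizer (T' : Set G) := by
    intro x hx
    have hx2 : x ∈ K2 := d2_le _ hx
    by_contra hnot
    set T'' := cjS x T' with hT''
    have hT''J : T'' ≤ J := (cjS_mono x hT'J).trans (cjS_le_of_mem_normalizer (hK2J hx2))
    have hJT'' : J ≤ Subgroup.normalizer (T'' : Set G) := by
      refine le_normalizer_of_conj_mem fun v hv w hw => ?_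
      rw [hT'', mem_cjS] at hw ⊢
      have hv' : x⁻¹ * v * x ∈ J := by simpa using conj_mem hK2J (K2.inv_mem hx2) hv
      simpa [mul_assoc] using conj_mem hJT' hv' hw
    set Z := T' ⊓ T'' with hZ
    have hZT : cjS c⁻¹ Z ≤ T := fun w hw => by
      have h := mem_cjS.1 hw
      rw [inv_inv] at h
      simpa [hT'def, mem_cjS, mul_assoc] using h.1
    have hZbot : Z = ⊥ := by
      by_contra hne
      have hn : T ≤ Subgroup.normalizer ((cjS c⁻¹ Z : Subgroup G) : Set G) := by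
        refine le_normalizer_of_conj_mem fun v hv w hw => ?_
        rw [mem_cjS, inv_inv] at hw ⊢
        have hv' : c * v * c⁻¹ ∈ J := hT'J ⟨v, hv, rfl⟩
        have := conj_mem (le_normalizer_inf hJT' hJT'') hv' hw
        rw [hZ]
        simpa [mul_assoc] using this
      have hAZ : A ≤ SK.img (cjS c⁻¹ Z) := by
        refine alt_le_of_normal (by omega) himgT.ge ?_ fun hb => hne ?_
        · intro r hr σ hσ
          obtain ⟨u, hu, rfl⟩ := SK.mem_img.1 hr
          obtain ⟨w, hw, rfl⟩ := SK.mem_img.1 hσ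
          exact SK.mem_img.2 ⟨u * w * u⁻¹, by simpa using conj_mem hn hu hw, by simp⟩
        · refine (Subgroup.eq_bot_iff_forall _).2 fun w hw => ?_
          have hw' : c⁻¹ * w * c ∈ cjS c⁻¹ Z := mem_cjS.2 (by simpa [mul_assoc] using hw)
          have h1 := hTK2 _ (hZT hw') ((SK.img_eq_bot_iff (hZT.trans hTX')).1 hb hw')
          calc w = c * (c⁻¹ * w * c) * c⁻¹ := by group
            _ = 1 := by rw [h1]; group
      have hTZ := hTeq hZT hAZ
      have hT'Z : T' ≤ T'' := fun w hw => by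
        have h := mem_cjS.1 (hTZ (mem_cjS.1 hw))
        simpa [mul_assoc] using h.2
      exact hnot (mem_normalizer_of_cjS_le (Subgroup.eq_of_le_of_card_ge hT'Z (cjS_card x T').le).ge)
    have hcomm : ⁅T', T''⁆ = ⊥ := le_bot_iff.1 (hZbot ▸ le_inf
      (comm_le_left ((hT''J.trans hJT'))) (comm_le_right (hT'J.trans hJT'')))
    refine alt_not_comm (n := d - 1) (by omega) fun σ hσ τ hτ => ?_
    obtain ⟨u, hu, rfl⟩ := hψT hσ
    have hτ' : (ψ ⟨x, hx2⟩)⁻¹ * τ * ψ ⟨x, hx2⟩ ∈ A := by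
      have := Subgroup.Normal.conj_mem (inferInstance : A.Normal) τ hτ (ψ ⟨x, hx2⟩)⁻¹
      rwa [inv_inv] at this
    obtain ⟨v, hv, hve⟩ := hψT hτ'
    have hτe : τ = ψ (⟨x, hx2⟩ * v * ⟨x, hx2⟩⁻¹) := by
      rw [map_mul, map_mul, map_inv, hve]; group
    rw [hτe, ← map_mul, ← map_mul]
    congr 1
    refine Subtype.ext ?_
    have hv'' : ((⟨x, hx2⟩ * v * ⟨x, hx2⟩⁻¹ : ↥K2) : G) ∈ T'' := mem_cjS.2 (by simpa [mul_assoc] using Subgroup.mem_subgroupOf.1 hv)
    exact (Subgroup.mem_centralizer_iff.1 (Subgroup.commutator_eq_bot_iff_le_centralizer.1 hcomm hu) _ hv'').symm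
  have himgP2 : A ≤ SH.img P2 := by
    rw [SH.img_d2 hK2X]
    exact (d2_alt (by omega) himgK2).ge
  have hi : SH.act ⟨c, hcH⟩ SH.pt ≠ SH.pt := fun e => hcK ((SH.stab _).1 e)
  obtain ⟨x, hxH, hxP2, hmove⟩ := SH.moves h6 ((d2_le _).trans hK2X) himgP2 hi
  refine hmove ?_
  have hy : c⁻¹ * x * c ∈ K := by
    refine hTnorm _ (H.mul_mem (H.mul_mem (H.inv_mem hcH) hxH) hcH) (mem_normalizer_of_cjS_le fun w hw => ?_)
    have h1 : c * w * c⁻¹ ∈ cjS x T' := by
      rw [mem_cjS, hT'def, mem_cjS]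
      have := mem_cjS.1 hw
      simpa [mul_assoc] using this
    have h3 : c * w * c⁻¹ ∈ T' := cjS_le_of_mem_normalizer (hnorm hxP2) h1
    rw [hT'def, mem_cjS] at h3
    simpa [mul_assoc] using h3
  have h4 := (SH.stab ((⟨c, hcH⟩ : ↥H)⁻¹ * ⟨x, hxH⟩ * ⟨c, hcH⟩)).2 hy
  rw [map_mul, map_mul, map_inv, Equiv.Perm.mul_apply, Equiv.Perm.mul_apply, Equiv.Perm.inv_eq_iff_eq] at h4
  exact h4

/-- The kernels meet trivially, in either case of the dichotomy. -/
theorem Hyp.inf_eq_bot [Finite G] (P : Hyp H K d) (SH : Side H K d) (SK : Side K H d) (hBH : SH.Big)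
    (hne : a1 H K ≠ ⊥) :
    a1 H K ⊓ a1 K H = ⊥ ∧ SK.Big ∧ ¬ a1 K H ≤ a1 H K ∧ ¬ a1 H K ≤ a1 K H := by
  obtain ⟨h21, hBK⟩ := P.not_le_and_big SH SK hBH hne
  have hne2 : a1 K H ≠ ⊥ := fun h => h21 (h ▸ bot_le)
  obtain ⟨h12, -⟩ := P.symm.not_le_and_big SK SH hBK hne2
  refine ⟨?_, hBK, h21, h12⟩
  rcases P.second with h | h
  · exact P.inf_eq_bot_aux SH SK hBH hBK h12 h21 h
  · rw [inf_comm]
    exact P.symm.inf_eq_bot_aux SK SH hBK hBH h21 h12 h

end Cfsg.Agent.Lib.Perm.Unfaithful
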