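import Cfsg.Agent.Lib.Perm.Unfaithful.Kernels
import Cfsg.Agent.Lib.PLocal.Subconstituent

/-!
# The structure of a point stabiliser with an unfaithful suborbit action
-/

set_option autoImplicit false

namespace Cfsg.Agent.Lib.Perm.Unfaithful

open Cfsg.Agent.Lib.ThreeTransp.ThompsonWielandt
open scoped Nat

variable {G : Type*} [Group G]

/-- A subgroup containing the alternating group is the alternating or the symmetric group. -/
theorem eq_alt_or_top {n : ℕ} {R : Subgroup (Equiv.Perm (Fin n))} (h : alternatingGroup (Fin n) ≤ R) :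
    R = alternatingGroup (Fin n) ∨ R = ⊤ := by
  by_cases hR : R ≤ alternatingGroup (Fin n)
  · exact Or.inl (le_antisymm hR h)
  refine Or.inr (eq_top_iff.2 fun x _ => ?_)
  obtain ⟨y, hy, hy'⟩ := SetLike.not_le_iff_exists.1 hR
  by_cases hx : x ∈ alternatingGroup (Fin n)
  · exact h hx
  rw [Equiv.Perm.mem_alternatingGroup] at hx hy'
  have hxy : x * y⁻¹ ∈ alternatingGroup (Fin n) := by
    rw [Equiv.Perm.mem_alternatingGroup, map_mul, map_inv, Int.units_ne_iff_eq_neg.1 hx,
      Int.units_ne_iff_eq_neg.1 hy', mul_inv_cancel]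
  simpa [mul_assoc] using R.mul_mem (h hxy) hy

/-- The pairs of permutations with equal signs. -/
noncomputable def signPair (n m : ℕ) : Equiv.Perm (Fin n) × Equiv.Perm (Fin m) →* ℤˣ :=
  Equiv.Perm.sign.comp (MonoidHom.fst (Equiv.Perm (Fin n)) (Equiv.Perm (Fin m))) *
    Equiv.Perm.sign.comp (MonoidHom.snd (Equiv.Perm (Fin n)) (Equiv.Perm (Fin m)))

theorem pair_mem {n m : ℕ} {Γ : Subgroup (Equiv.Perm (Fin n) × Equiv.Perm (Fin m))}
    (h1 : ∀ a ∈ alternatingGroup (Fin n), (a, 1) ∈ Γ) (h2 : ∀ b ∈ alternatingGroup (Fin m), (1, b) ∈ Γ)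
    {a a' : Equiv.Perm (Fin n)} {b b' : Equiv.Perm (Fin m)} (h : (a', b') ∈ Γ)
    (ha : Equiv.Perm.sign a = Equiv.Perm.sign a') (hb : Equiv.Perm.sign b = Equiv.Perm.sign b') :
    (a, b) ∈ Γ := by
  have e1 := h1 (a * a'⁻¹) (by rw [Equiv.Perm.mem_alternatingGroup, map_mul, map_inv, ha, mul_inv_cancel])
  have e2 := h2 (b * b'⁻¹) (by rw [Equiv.Perm.mem_alternatingGroup, map_mul, map_inv, hb, mul_inv_cancel])
  simpa using Γ.mul_mem (Γ.mul_mem e1 e2) h

/-- Subdirect subgroups above the product of the alternating groups. -/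
theorem pair_classify {n m : ℕ} {Γ : Subgroup (Equiv.Perm (Fin n) × Equiv.Perm (Fin m))}
    (h1 : ∀ a ∈ alternatingGroup (Fin n), (a, 1) ∈ Γ) (h2 : ∀ b ∈ alternatingGroup (Fin m), (1, b) ∈ Γ)
    (p1 : ∀ a, ∃ b, (a, b) ∈ Γ) (p2 : ∀ b, ∃ a, (a, b) ∈ Γ) :
    Γ = ⊤ ∨ Γ = (signPair n m).ker := by
  have hker : ∀ x : Equiv.Perm (Fin n) × Equiv.Perm (Fin m), x ∈ (signPair n m).ker ↔
      Equiv.Perm.sign x.1 = Equiv.Perm.sign x.2 := by
    intro x
    rw [MonoidHom.mem_ker]
    rcases Int.units_eq_one_or (Equiv.Perm.sign x.1) with e | e <;>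
      rcases Int.units_eq_one_or (Equiv.Perm.sign x.2) with e' | e' <;>
      simp [signPair, e, e']
  by_cases hall : ∀ x ∈ Γ, Equiv.Perm.sign x.1 = Equiv.Perm.sign x.2
  · refine Or.inr (le_antisymm (fun x hx => (hker x).2 (hall x hx)) fun x hx => ?_)
    obtain ⟨b', hb'⟩ := p1 x.1
    exact pair_mem h1 h2 hb' rfl (((hker x).1 hx).symm.trans (hall _ hb'))
  · push Not at hall
    obtain ⟨⟨u, v⟩, huv, hne⟩ := hall
    refine Or.inl (eq_top_iff.2 ?_)
    rintro ⟨a, b⟩ -
    obtain ⟨b', hb'⟩ := p1 a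
    by_cases hb : Equiv.Perm.sign b = Equiv.Perm.sign b'
    · exact pair_mem h1 h2 hb' rfl hb
    -- multiply by an element that changes only the second sign
    obtain ⟨u', v', huv', hu', hv'⟩ : ∃ u' v', (u', v') ∈ Γ ∧ Equiv.Perm.sign u' = 1 ∧
        Equiv.Perm.sign v' = -1 := by
      rcases Int.units_eq_one_or (Equiv.Perm.sign u) with e | e
      · refine ⟨u, v, huv, e, ?_⟩
        have := Int.units_ne_iff_eq_neg.1 (Ne.symm hne)
        rw [this, e]
      · have ev : Equiv.Perm.sign v = 1 := by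
          have := Int.units_ne_iff_eq_neg.1 (Ne.symm hne)
          rw [this, e, neg_neg]
        obtain ⟨w, hw⟩ := p2 b'
        obtain ⟨z, hz⟩ : ∃ z : Equiv.Perm (Fin m), Equiv.Perm.sign z = -1 := by
          rcases Int.units_eq_one_or (Equiv.Perm.sign b) with e1 | e1
          · rcases Int.units_eq_one_or (Equiv.Perm.sign b') with e2 | e2
            · exact absurd (e1.trans e2.symm) hb
            · exact ⟨b', e2⟩
          · exact ⟨b, e1⟩
        obtain ⟨w, hw⟩ := p2 z
        rcases Int.units_eq_one_or (Equiv.Perm.sign w) with e1 | e1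
        · exact ⟨w, z, hw, e1, hz⟩
        · refine ⟨u * w, v * z, Γ.mul_mem huv hw, ?_, ?_⟩
          · rw [map_mul, e, e1, neg_mul_neg, one_mul]
          · rw [map_mul, ev, hz, one_mul]
    refine pair_mem h1 h2 (Γ.mul_mem hb' huv') ?_ ?_
    · show _ = Equiv.Perm.sign (a * u')
      rw [map_mul, hu', mul_one]
    · show _ = Equiv.Perm.sign (b' * v')
      rw [map_mul, hv', mul_neg_one]
      exact Int.units_ne_iff_eq_neg.1 hb

/-- No group with two commuting small-index normal subgroups maps onto the symmetric group. -/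
theorem no_surjection [Finite G] {n : ℕ} (hn : 5 ≤ n) (f : G →* Equiv.Perm (Fin n))
    (hf : Function.Surjective f) {C D : Subgroup G} [C.Normal] [D.Normal]
    (hcomm : ∀ c ∈ C, ∀ x ∈ D, c * x = x * c) (hC : C.index < n !) (hD : D.index < n !) : False := by
  have key : ∀ {L : Subgroup G}, L.Normal → L.index < n ! → L.map f ≠ ⊥ := by
    intro L _ hL hb
    rw [Subgroup.map_eq_bot_iff] at hb
    have h1 := Nat.le_of_dvd (Nat.pos_of_ne_zero Subgroup.index_ne_zero_of_finite)
      (Subgroup.index_dvd_of_le hb)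
    rw [Subgroup.index_ker, MonoidHom.range_eq_top.2 hf, Subgroup.card_top, Nat.card_perm, Nat.card_fin] at h1
    omega
  have hAC : alternatingGroup (Fin n) ≤ C.map f := by
    refine alt_le_of_normal hn (le_top : alternatingGroup (Fin n) ≤ ⊤) (fun r _ x hx => ?_)
      (key inferInstance hC)
    exact ((inferInstance : C.Normal).map f hf).conj_mem x hx r
  refine key (inferInstance : D.Normal) hD ((Subgroup.eq_bot_iff_forall _).2 fun x hx => ?_)
  obtain ⟨y, hy, rfl⟩ := hx
  refine eq_one_of_commute (by omega) fun a ha => ?_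
  obtain ⟨c, hc, rfl⟩ := hAC ha
  rw [← map_mul, ← map_mul, hcomm c hc y hy]

variable {H K : Subgroup G} {d : ℕ}

/-- **The structure of the point stabiliser.** -/
theorem Hyp.main [Finite G] (P : Hyp H K d) (SH : Side H K d) (SK : Side K H d) (hBH : SH.Big)
    (hne : a1 H K ≠ ⊥) :
    (SH.act.range = alternatingGroup (Fin d) ∧
        Nonempty (↥H ≃* alternatingGroup (Fin d) × alternatingGroup (Fin (d - 1)))) ∨
      (SH.act.range = ⊤ ∧
        (Nonempty (↥H ≃* Equiv.Perm (Fin d) × Equiv.Perm (Fin (d - 1))) ∨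
          Nonempty (↥H ≃* Equiv.Perm (Fin d) × alternatingGroup (Fin (d - 1))) ∨
          Nonempty (↥H ≃* (signPair d (d - 1)).ker))) := by
  classical
  have h6 := P.six
  obtain ⟨hJ, hBK, h21, h12⟩ := P.inf_eq_bot SH SK hBH hne
  set K1 := a1 H K with hK1
  set K2 := a1 K H with hK2
  have hK1X : K1 ≤ H ⊓ K := le_inf (a1_le_left H K) (a1_le_right H K)
  have hK1X' : K1 ≤ K ⊓ H := le_inf (a1_le_right H K) (a1_le_left H K)
  have hK2X' : K2 ≤ K ⊓ H := le_inf (a1_le_left K H) (a1_le_right K H)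
  have hHK1 : H ≤ Subgroup.normalizer (K1 : Set G) := le_normalizer_hcore _ _
  have hcomm : ∀ x ∈ K1, ∀ y ∈ K2, x * y = y * x := by
    intro x hx y hy
    have h : ⁅K1, K2⁆ = ⊥ := le_bot_iff.1 (hJ ▸ le_inf
      (comm_le_left ((hK2X'.trans inf_le_right).trans hHK1)) (comm_le_right (a1_le_normalizer H K)))
    exact (Subgroup.mem_centralizer_iff.1 (Subgroup.commutator_eq_bot_iff_le_centralizer.1 h hx) y hy).symm
  have hA' : alternatingGroup (Fin (d - 1)) ≤ SK.rho.range := SK.big_alt h6 P.symm.relH hBK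
  have hK1n : K ⊓ H ≤ Subgroup.normalizer (K1 : Set G) := inf_le_right.trans hHK1
  have himgK1 : alternatingGroup (Fin (d - 1)) ≤ SK.img K1 := alt_le_of_normal (by omega) hA'
    (SK.img_conj hK1n) fun h => h12 ((SK.img_eq_bot_iff hK1X').1 h)
  -- the centraliser of the kernel
  let C : Subgroup ↥H := (Subgroup.centralizer (K1 : Set G)).subgroupOf H
  have hCmem : ∀ h : ↥H, h ∈ C ↔ ∀ k ∈ K1, k * h = h * k := fun h => by
    rw [Subgroup.mem_subgroupOf, Subgroup.mem_centralizer_iff]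
    rfl
  haveI hCn : C.Normal := ⟨fun c hc h => (hCmem _).2 fun k hk => by
    have h1 := (hCmem c).1 hc _ (conj_mem hHK1 (H.inv_mem h.2) hk)
    rw [inv_inv] at h1
    calc k * (↑(h * c * h⁻¹) : G) = (h : G) * ((h : G)⁻¹ * k * (h : G) * c) * (h : G)⁻¹ := by
          push_cast; group
      _ = (h : G) * (c * ((h : G)⁻¹ * k * (h : G))) * (h : G)⁻¹ := by rw [h1]
      _ = (↑(h * c * h⁻¹) : G) * k := by push_cast; group⟩
  have hXC : ∀ x : ↥(K ⊓ H), (⟨(x : G), x.2.2⟩ : ↥H) ∈ C ↔ SK.rho x = 1 := by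
    intro x
    rw [hCmem, SK.rho_eq_one]
    refine ⟨fun hc => ?_, fun hx k hk => hcomm k hk x hx⟩
    rw [← SK.rho_eq_one]
    refine eq_one_of_commute (by omega) fun a ha => ?_
    obtain ⟨y, hy, rfl⟩ := SK.mem_img.1 (himgK1 ha)
    rw [← map_mul, ← map_mul]
    congr 1
    exact Subtype.ext (hc y hy)
  -- the action of the centraliser is large
  have hactC : alternatingGroup (Fin d) ≤ C.map SH.act := by
    refine alt_le_of_normal (by omega) hBH ?_ fun hb => h21 fun x hx => ?_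
    · rintro _ ⟨r, rfl⟩ _ ⟨x, hx, rfl⟩
      exact ⟨r * x * r⁻¹, hCn.conj_mem x hx r, by simp⟩
    · have hxH : x ∈ H := (hK2X' hx).2
      refine (SH.ker ⟨x, hxH⟩).1 (Subgroup.mem_bot.1 (hb ▸ Subgroup.mem_map_of_mem SH.act
        ((hCmem ⟨x, hxH⟩).2 fun k hk => hcomm k hk x hx)))
  have hdec : ∀ h : ↥H, ∃ x : ↥(K ⊓ H), h * (⟨(x : G), x.2.2⟩ : ↥H)⁻¹ ∈ C := by
    intro h
    obtain ⟨c, hc, hce⟩ : ∃ c ∈ C, SH.act c SH.pt = SH.act h SH.pt := by
      by_cases hp : SH.act h SH.pt = SH.pt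
      · exact ⟨1, C.one_mem, by rw [map_one, hp]; rfl⟩
      · obtain ⟨k, hk, l, hl, hkl⟩ : ∃ k ∈ Finset.univ \ {SH.pt, SH.act h SH.pt},
            ∃ l ∈ Finset.univ \ {SH.pt, SH.act h SH.pt}, k ≠ l := by
          refine Finset.one_lt_card.1 ?_
          have h1 := Finset.le_card_sdiff {SH.pt, SH.act h SH.pt} (Finset.univ : Finset (Fin d))
          have h2 : ({SH.pt, SH.act h SH.pt} : Finset (Fin d)).card ≤ 2 := Finset.card_le_two
          rw [Finset.card_univ, Fintype.card_fin] at h1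
          omega
        simp only [Finset.mem_sdiff, Finset.mem_univ, true_and, Finset.mem_insert, Finset.mem_singleton,
          not_or] at hk hl
        obtain ⟨c, hc, hce⟩ := hactC (Equiv.Perm.mul_mem_alternatingGroup_of_isSwap
          ⟨SH.pt, SH.act h SH.pt, Ne.symm hp, rfl⟩ ⟨k, l, hkl, rfl⟩)
        refine ⟨c, hc, ?_⟩
        rw [hce, Equiv.Perm.mul_apply, Equiv.swap_apply_of_ne_of_ne (Ne.symm hk.1) (Ne.symm hl.1),
          Equiv.swap_apply_left]
    have hxK : ((c⁻¹ * h : ↥H) : G) ∈ K := (SH.stab _).1 (by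
      rw [map_mul, map_inv, Equiv.Perm.mul_apply, Equiv.Perm.inv_eq_iff_eq, hce])
    refine ⟨⟨((c⁻¹ * h : ↥H) : G), hxK, (c⁻¹ * h).2⟩, ?_⟩
    have : h * (c⁻¹ * h)⁻¹ = h * h⁻¹ * c := by group
    show h * (c⁻¹ * h)⁻¹ ∈ C
    rw [this, mul_inv_cancel, one_mul]
    exact hc
  choose xs hxs using hdec
  have hlam : ∀ (h : ↥H) (x : ↥(K ⊓ H)), h * (⟨(x : G), x.2.2⟩ : ↥H)⁻¹ ∈ C →
      SK.rho (xs h) = SK.rho x := by
    intro h x hx
    have h1 : (⟨(x : G), x.2.2⟩ : ↥H) * (⟨(xs h : G), (xs h).2.2⟩ : ↥H)⁻¹ ∈ C := by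
      simpa [mul_assoc] using C.mul_mem (C.inv_mem hx) (hxs h)
    have h2 := (hXC (x * (xs h)⁻¹)).1 h1
    rw [map_mul, map_inv, mul_inv_eq_one] at h2
    exact h2.symm
  let lam : ↥H →* Equiv.Perm (Fin (d - 1)) := MonoidHom.mk' (fun h => SK.rho (xs h)) fun h h' => by
    refine (hlam _ (xs h * xs h') ?_).trans (map_mul _ _ _)
    set z : ↥H := ⟨(xs h : G), (xs h).2.2⟩ with hz
    set z' : ↥H := ⟨(xs h' : G), (xs h').2.2⟩ with hz'
    show h * h' * (z * z')⁻¹ ∈ C
    have e : h * h' * (z * z')⁻¹ = h * z⁻¹ * (z * (h' * z'⁻¹) * z⁻¹) := by group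
    rw [e]
    exact C.mul_mem (hxs h) (hCn.conj_mem _ (hxs h') z)
  have hlamX : ∀ x : ↥(K ⊓ H), lam ⟨(x : G), x.2.2⟩ = SK.rho x := fun x =>
    hlam _ x (by rw [mul_inv_cancel]; exact C.one_mem)
  have hlamC : ∀ c ∈ C, lam c = 1 := fun c hc => by
    refine (hlam c 1 ?_).trans (map_one _)
    show c * (1 : ↥H)⁻¹ ∈ C
    rw [inv_one, mul_one]
    exact hc
  have hlamrange : lam.range = SK.rho.range := le_antisymm
    (by rintro _ ⟨h, rfl⟩; exact ⟨xs h, rfl⟩) (by rintro _ ⟨x, rfl⟩; exact ⟨_, hlamX x⟩)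
  -- the embedding
  set Φ := SH.act.prod lam with hΦ
  have hΦinj : Function.Injective Φ := by
    refine (injective_iff_map_eq_one Φ).2 fun h hh => ?_
    have h1 : (h : G) ∈ K1 := (SH.ker h).1 (congrArg Prod.fst hh)
    have h2 := (hlamX ⟨(h : G), hK1X' h1⟩).symm.trans (congrArg Prod.snd hh)
    have h3 : (h : G) ∈ K1 ⊓ K2 := ⟨h1, (SK.rho_eq_one _).1 h2⟩
    rw [hJ, Subgroup.mem_bot] at h3
    exact Subtype.ext h3
  have hgen1 : ∀ a ∈ alternatingGroup (Fin d), (a, 1) ∈ Φ.range := by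
    intro a ha
    obtain ⟨c, hc, rfl⟩ := hactC ha
    exact ⟨c, Prod.ext rfl (hlamC c hc)⟩
  have hgen2 : ∀ b ∈ alternatingGroup (Fin (d - 1)), ((1 : Equiv.Perm (Fin d)), b) ∈ Φ.range := by
    intro b hb
    obtain ⟨x, hx, rfl⟩ := SK.mem_img.1 (himgK1 hb)
    exact ⟨⟨(x : G), x.2.2⟩, Prod.ext ((SH.ker _).2 hx) (hlamX x)⟩
  rcases eq_alt_or_top hBH with hR | hR
  · refine Or.inl ⟨hR, ?_⟩
    -- the other action is not symmetric
    have hR' : SK.rho.range = alternatingGroup (Fin (d - 1)) := by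
      refine (eq_alt_or_top hA').resolve_right fun htop => ?_
      have hsurj : Function.Surjective (SK.act.comp P.iso.some.toMonoidHom) := by
        suffices hs : Function.Surjective SK.act from hs.comp P.iso.some.surjective
        refine MonoidHom.range_eq_top.1 (Subgroup.eq_top_of_card_eq _ ?_)
        rw [SK.rel_a1 P.symm.relH, htop, Subgroup.card_top, Nat.card_perm, Nat.card_fin, Nat.card_perm,
          Nat.card_fin, mul_comm]
        exact Nat.mul_factorial_pred (by omega)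
      haveI : (K1.subgroupOf H).Normal := conj_normal hHK1
      refine no_surjection (by omega) _ hsurj (C := C) (D := K1.subgroupOf H)
        (fun c hc x hx => Subtype.ext ((hCmem c).1 hc x hx).symm) ?_ ?_
      · have h1 : lam.ker ≤ C := fun h hh => by
          have h2 := hxs h
          have h3 : (⟨(xs h : G), (xs h).2.2⟩ : ↥H) ∈ C := (hXC _).2 hh
          simpa using C.mul_mem h2 h3
        have h2 := Nat.le_of_dvd (Nat.pos_of_ne_zero Subgroup.index_ne_zero_of_finite)
          (Subgroup.index_dvd_of_le h1)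
        rw [Subgroup.index_ker] at h2
        refine h2.trans_lt ?_
        refine lt_of_le_of_lt (Nat.le_of_dvd Nat.card_pos (Subgroup.card_subgroup_dvd_card _)) ?_
        rw [Nat.card_perm, Nat.card_fin]
        exact (Nat.factorial_lt (by omega)).2 (by omega)
      · show K1.relIndex H < (d !)
        rw [← SH.card_range_act, hR, ← two_mul_card_alt (n := d) (by omega)]
        have : 0 < Nat.card (alternatingGroup (Fin d)) := Nat.card_pos
        omega
    let f : ↥H →* alternatingGroup (Fin d) × alternatingGroup (Fin (d - 1)) :=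
      (SH.act.codRestrict _ fun h => hR ▸ MonoidHom.mem_range.2 ⟨h, rfl⟩).prod
        (lam.codRestrict _ fun h => hR' ▸ hlamrange ▸ MonoidHom.mem_range.2 ⟨h, rfl⟩)
    refine ⟨MulEquiv.ofBijective f ⟨fun h h' e => hΦinj ?_, fun ⟨a, b⟩ => ?_⟩⟩
    · exact Prod.ext (congrArg (fun p => (p.1 : Equiv.Perm (Fin d))) e)
        (congrArg (fun p => (p.2 : Equiv.Perm (Fin (d - 1)))) e)
    · obtain ⟨h, hh⟩ : ((a : Equiv.Perm (Fin d)), (b : Equiv.Perm (Fin (d - 1)))) ∈ Φ.range := by
        simpa using Φ.range.mul_mem (hgen1 _ a.2) (hgen2 _ b.2)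
      exact ⟨h, Prod.ext (Subtype.ext (congrArg Prod.fst hh :)) (Subtype.ext (congrArg Prod.snd hh :))⟩
  · refine Or.inr ⟨hR, ?_⟩
    rcases eq_alt_or_top hA' with hR' | hR'
    · refine Or.inr (Or.inl ?_)
      let f : ↥H →* Equiv.Perm (Fin d) × alternatingGroup (Fin (d - 1)) :=
        SH.act.prod (lam.codRestrict _ fun h => hR' ▸ hlamrange ▸ MonoidHom.mem_range.2 ⟨h, rfl⟩)
      refine ⟨MulEquiv.ofBijective f ⟨fun h h' e => hΦinj ?_, fun ⟨a, b⟩ => ?_⟩⟩
      · exact Prod.ext (congrArg Prod.fst e :) (congrArg (fun p => (p.2 : Equiv.Perm (Fin (d - 1)))) e)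
      · obtain ⟨h0, hh0⟩ : a ∈ SH.act.range := hR ▸ Subgroup.mem_top a
        have hb0 : lam h0 ∈ alternatingGroup (Fin (d - 1)) := hR' ▸ hlamrange ▸ MonoidHom.mem_range.2 ⟨h0, rfl⟩
        obtain ⟨h1, hh1⟩ := hgen2 _ (Subgroup.mul_mem _ (Subgroup.inv_mem _ hb0) b.2)
        refine ⟨h0 * h1, Prod.ext ?_ (Subtype.ext ?_)⟩
        · show SH.act (h0 * h1) = a
          rw [map_mul, hh0, show SH.act h1 = 1 from congrArg Prod.fst hh1, mul_one]
        · show lam (h0 * h1) = b
          rw [map_mul, show lam h1 = (lam h0)⁻¹ * (b : Equiv.Perm _) from congrArg Prod.snd hh1,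
            mul_inv_cancel_left]
    · have p1 : ∀ a, ∃ b, (a, b) ∈ Φ.range := fun a => by
        obtain ⟨h, hh⟩ : a ∈ SH.act.range := hR ▸ Subgroup.mem_top a
        exact ⟨lam h, h, Prod.ext hh rfl⟩
      have p2 : ∀ b, ∃ a, (a, b) ∈ Φ.range := fun b => by
        obtain ⟨h, hh⟩ : b ∈ lam.range := by rw [hlamrange, hR']; trivial
        exact ⟨SH.act h, h, Prod.ext rfl hh⟩
      rcases pair_classify hgen1 hgen2 p1 p2 with e | e
      · exact Or.inl ⟨(MonoidHom.ofInjective hΦinj).trans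
          ((MulEquiv.subgroupCongr e).trans Subgroup.topEquiv)⟩
      · exact Or.inr (Or.inr ⟨(MonoidHom.ofInjective hΦinj).trans (MulEquiv.subgroupCongr e)⟩)

/-! ## Application to a primitive group -/

open Cfsg.Agent.Lib in
/-- The `p`-cores of the two-point stabiliser vanish. -/
theorem no_normal_pGroup [Finite G] (h6 : 6 ≤ d) (SH : Side H K d) (hBH : SH.Big)
    (hrel : (H ⊓ K).relIndex H = d) (p : ℕ) [Fact p.Prime] :
    Cfsg.pCoreOf p (H ⊓ K) ≤ a1 H K := by
  by_contra h
  have hA : alternatingGroup (Fin (d - 1)) ≤ SH.img (Cfsg.pCoreOf p (H ⊓ K)) :=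
    alt_le_of_normal (by omega) (SH.big_alt h6 hrel hBH) (SH.img_conj (le_normalizer_Op p _))
      fun hb => h ((SH.img_eq_bot_iff (Op_le p _)).1 hb)
  have hp : IsPGroup p (alternatingGroup (Fin (d - 1))) :=
    ((Op_isPGroup p (H ⊓ K)).of_equiv (Subgroup.subgroupOfEquivOfLe (Op_le p _)).symm |>.map _).to_le hA
  obtain ⟨k, hk⟩ := IsPGroup.iff_card.1 hp
  have hf := two_mul_card_alt (n := d - 1) (by omega)
  have h4 : 4 ! ∣ (d - 1)! := Nat.factorial_dvd_factorial (by omega)
  rw [← hf, hk, show 4 ! = 2 * (2 ^ 2 * 3) by rfl] at h4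
  have h5 := Nat.dvd_of_mul_dvd_mul_left two_pos h4
  have e2 := (Nat.prime_dvd_prime_iff_eq Nat.prime_two (Fact.out)).1
    (Nat.prime_two.dvd_of_dvd_pow (dvd_trans ⟨2 * 3, by norm_num⟩ h5))
  have e3 := (Nat.prime_dvd_prime_iff_eq Nat.prime_three (Fact.out)).1
    (Nat.prime_three.dvd_of_dvd_pow (dvd_trans ⟨2 ^ 2, by norm_num⟩ h5))
  omega

open Cfsg.Agent.Lib in
/-- The standing hypotheses for a primitive group. -/
theorem hyp_of_ctx [Finite G] (c : Ctx H K) {g : G} (hg : H.map (MulAut.conj g).toMonoidHom = K)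
    (h6 : 6 ≤ d) (hrel : (H ⊓ K).relIndex H = d) (e : ↥H ≃* ↥K) (SH : Side H K d) (hBH : SH.Big) :
    Hyp H K d where
  ctx := c
  iso := ⟨e⟩
  six := h6
  relH := hrel
  relK := relIndex_right_eq e hrel
  fit := by
    intro R hR hn hab
    have hbot : Cfsg.fittingSubgroup ↥(H ⊓ K) = ⊥ := le_bot_iff.mp
      (Cores.fittingSubgroup_le_of_pCore_le fun p hp => by
        haveI := Fact.mk hp
        exact (Op_eq_bot_iff.mp (PLocal.Subconstituent.Op_inf_eq_bot c hg p
          (no_normal_pGroup h6 SH hBH hrel p))).le)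
    haveI hN : (R.subgroupOf (H ⊓ K)).Normal := conj_normal hn
    haveI : IsMulCommutative (R.subgroupOf (H ⊓ K) : Subgroup ↥(H ⊓ K)) := ⟨⟨fun x y => by
      refine Subtype.ext (Subtype.ext ?_)
      exact (Subgroup.mem_centralizer_iff.1 (Subgroup.commutator_eq_bot_iff_le_centralizer.1 hab x.2) _ y.2).symm⟩⟩
    have h1 := Cores.le_fittingSubgroup hN (Cores.isNilpotent_of_isMulCommutative _)
    rw [hbot, le_bot_iff, Subgroup.subgroupOf_eq_bot] at h1
    exact disjoint_self.1 (h1.mono_right hR)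
  second := by
    by_contra hne
    push Not at hne
    obtain ⟨p, hp, -, -, h1, -, -⟩ := c.main hne.1 hne.2 (card_pCore_eq e)
    haveI := Fact.mk hp
    have hO : Cfsg.pCoreOf p (a1 H K) = ⊥ := le_bot_iff.mp (PLocal.Subconstituent.Op_inf_eq_bot c hg p
      (no_normal_pGroup h6 SH hBH hrel p) ▸ le_Op_of_sn
      ((Op_sn p (a1 H K)).trans (Sn.of_le_normalizer (le_inf (a1_le_left H K) (a1_le_right H K))
        (inf_le_left.trans (le_normalizer_hcore H (H ⊓ K))))) (Op_isPGroup p _))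
    rw [Op_eq_bot_iff.mp hO] at h1
    have h2 := Components.centralizer_genFitting_le (G := ↥(a1 H K))
    rw [h1] at h2
    have ha1 : a1 H K = ⊥ := (Subgroup.eq_bot_iff_forall _).mpr fun x hx =>
      congrArg Subtype.val (Subgroup.mem_bot.mp (h2 (Subgroup.mem_centralizer_iff.mpr fun y hy => by
        rw [SetLike.mem_coe, Subgroup.mem_bot] at hy
        simp [hy]) : (⟨x, hx⟩ : ↥(a1 H K)) ∈ (⊥ : Subgroup ↥(a1 H K))))
    exact hne.1 (le_bot_iff.mp (ha1 ▸ (a2_le_D H K).trans inf_le_left))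

/-- **Suborbits with unfaithful stabiliser action containing the alternating group.** -/
theorem primitive_main {G Ω : Type*} [Group G] [Finite G] [MulAction G Ω] [FaithfulSMul G Ω] [Finite Ω]
    (hprim : MulAction.IsPreprimitive G Ω) (a b : Ω) (d : ℕ)
    (hd : Nat.card (MulAction.orbit (MulAction.stabilizer G a) b) = d) (h6 : 6 ≤ d)
    (halt : (MulAction.toPermHom (MulAction.stabilizer G a) (MulAction.orbit (MulAction.stabilizer G a) b)).range.index ≤ 2)
    (hunf : ¬ Function.Injective (MulAction.toPermHom (MulAction.stabilizer G a) (MulAction.orbit (MulAction.stabilizer G a) b))) :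
    ((MulAction.toPermHom (MulAction.stabilizer G a) (MulAction.orbit (MulAction.stabilizer G a) b)).range.index = 2 ∧
      Nonempty (MulAction.stabilizer G a ≃* alternatingGroup (Fin d) × alternatingGroup (Fin (d - 1)))) ∨
    ((MulAction.toPermHom (MulAction.stabilizer G a) (MulAction.orbit (MulAction.stabilizer G a) b)).range = ⊤ ∧
      (Nonempty (MulAction.stabilizer G a ≃* Equiv.Perm (Fin d) × Equiv.Perm (Fin (d - 1))) ∨
       Nonempty (MulAction.stabilizer G a ≃* Equiv.Perm (Fin d) × alternatingGroup (Fin (d - 1))) ∨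
       Nonempty (MulAction.stabilizer G a ≃* (signPair d (d - 1)).ker))) := by
  classical
  obtain ⟨c, ⟨e⟩, hrel⟩ := PLocal.Subconstituent.exists_ctx hprim a b d hd (by omega)
  haveI := hprim
  obtain ⟨g, hg⟩ := MulAction.exists_smul_eq G a b
  set H := MulAction.stabilizer G a with hH
  set K := MulAction.stabilizer G b with hK
  have hgK : H.map (MulAut.conj g).toMonoidHom = K := by
    rw [hK, ← hg, MulAction.stabilizer_smul_eq_stabilizer_map_conj]
  set π := MulAction.toPermHom ↥H (MulAction.orbit H b) with hπ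
  haveI : Fintype (MulAction.orbit H b) := Fintype.ofFinite _
  let ε : MulAction.orbit H b ≃ Fin d := (Fintype.equivFin _).trans
    (finCongr (by rw [← Nat.card_eq_fintype_card]; exact hd))
  have hperm : ∀ (h : ↥H) (q : MulAction.orbit H b), ε.permCongrHom (π h) (ε q) = ε (h • q) := by
    intro h q
    simp [Equiv.permCongrHom, Equiv.permCongr_apply, hπ, MulAction.toPermHom_apply]
  let SH : Side H K d :=
    { act := ε.permCongrHom.toMonoidHom.comp π
      pt := ε ⟨b, MulAction.mem_orbit_self b⟩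
      stab := fun h => by
        show ε.permCongrHom (π h) _ = _ ↔ _
        rw [hperm, ε.injective.eq_iff, Subtype.ext_iff]
        exact Iff.rfl
      ker := fun h => by
        show ε.permCongrHom (π h) = 1 ↔ _
        rw [mem_hcore_inf]
        constructor
        · intro h1 q
          have h2 := hperm h ⟨q • b, MulAction.mem_orbit b q⟩
          rw [h1, Equiv.Perm.one_apply, ε.injective.eq_iff, Subtype.ext_iff] at h2
          show (q⁻¹ * h * q) • b = b
          rw [mul_smul, mul_smul, inv_smul_eq_iff]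
          exact h2.symm
        · intro h1
          refine Equiv.ext fun i => ?_
          obtain ⟨⟨y, q, rfl⟩, rfl⟩ := ε.surjective i
          rw [hperm, Equiv.Perm.one_apply]
          refine congrArg ε (Subtype.ext ?_)
          have h2 : (q⁻¹ * h * q) • b = b := h1 q
          rw [mul_smul, mul_smul, inv_smul_eq_iff] at h2
          exact h2
      trans := fun i => by
        obtain ⟨⟨y, q, rfl⟩, rfl⟩ := ε.surjective i
        refine ⟨q, ?_⟩
        show ε.permCongrHom (π q) _ = _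
        rw [hperm]
        rfl }
  have hrange : SH.act.range = π.range.map ε.permCongrHom.toMonoidHom := MonoidHom.range_comp _ _
  have hidx : SH.act.range.index = π.range.index := by
    rw [hrange]
    exact Subgroup.index_map_equiv _ ε.permCongrHom
  have hBH : SH.Big := by
    haveI : Nontrivial (Fin d) := Fin.nontrivial_iff_two_le.2 (by omega)
    exact Equiv.Perm.alternatingGroup_le_of_index_le_two (hidx ▸ halt)
  have hne : a1 H K ≠ ⊥ := fun hb => hunf ((injective_iff_map_eq_one π).2 fun h hh => by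
    have h1 := (SH.ker h).1 (by show ε.permCongrHom (π h) = 1; rw [hh, map_one])
    rw [hb, Subgroup.mem_bot] at h1
    exact Subtype.ext h1)
  have P := hyp_of_ctx c hgK h6 hrel e SH hBH
  obtain ⟨SK⟩ := exists_side P.symm.relH
  rcases P.main SH SK hBH hne with ⟨hA, hI⟩ | ⟨hT, hI⟩
  · refine Or.inl ⟨?_, hI⟩
    haveI : Nontrivial (Fin d) := Fin.nontrivial_iff_two_le.2 (by omega)
    rw [← hidx, hA, alternatingGroup.index_eq_two]
  · refine Or.inr ⟨?_, hI⟩
    rw [← Subgroup.index_eq_one, ← hidx, hT, Subgroup.index_top]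

end Cfsg.Agent.Lib.Perm.Unfaithful
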