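import Cfsg.Agent.Lib.Perm.Unfaithful.Basic

/-!
# The action of a point stabiliser on a suborbit and the induced action of the two-point stabiliser
-/

set_option autoImplicit false

namespace Cfsg.Agent.Lib.Perm.Unfaithful

open Cfsg.Agent.Lib.ThreeTransp.ThompsonWielandt
open scoped Nat

variable {G : Type*} [Group G]

/-- The action of `H` on the cosets of `H ⊓ K`. -/
structure Side (H K : Subgroup G) (d : ℕ) where
  act : ↥H →* Equiv.Perm (Fin d)
  pt : Fin d
  stab : ∀ h : ↥H, act h pt = pt ↔ (h : G) ∈ K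
  ker : ∀ h : ↥H, act h = 1 ↔ (h : G) ∈ a1 H K
  trans : ∀ i, ∃ h : ↥H, act h pt = i

theorem mem_hcore_inf {H K : Subgroup G} (h : ↥H) :
    (h : G) ∈ a1 H K ↔ ∀ g : ↥H, ((g⁻¹ * h * g : ↥H) : G) ∈ K := by
  rw [a1, mem_hcore]
  constructor
  · intro hh g
    have := (hh.2 (g : G)⁻¹ (H.inv_mem g.2)).2
    simpa using this
  · intro hh
    refine ⟨h.2, fun g hg => ⟨H.mul_mem (H.mul_mem hg h.2) (H.inv_mem hg), ?_⟩⟩
    have := hh (⟨g, hg⟩⁻¹ : ↥H)
    simpa using this

theorem exists_side [Finite G] {H K : Subgroup G} {d : ℕ} (hd : (H ⊓ K).relIndex H = d) :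
    Nonempty (Side H K d) := by
  classical
  rw [Subgroup.inf_relIndex_left] at hd
  haveI : Fintype (↥H ⧸ K.subgroupOf H) := Fintype.ofFinite _
  let e : (↥H ⧸ K.subgroupOf H) ≃ Fin d := (Fintype.equivFin _).trans
    (finCongr (by rw [← Nat.card_eq_fintype_card]; exact hd))
  have hperm : ∀ (h : ↥H) (q : ↥H ⧸ K.subgroupOf H),
      (e.permCongrHom (MulAction.toPermHom ↥H (↥H ⧸ K.subgroupOf H) h)) (e q) = e (h • q) := by
    intro h q
    simp [Equiv.permCongrHom, Equiv.permCongr_apply, MulAction.toPermHom_apply]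
  refine ⟨⟨e.permCongrHom.toMonoidHom.comp (MulAction.toPermHom ↥H _),
    e ((1 : ↥H) : ↥H ⧸ K.subgroupOf H), fun h => ?_, fun h => ?_, fun i => ?_⟩⟩
  · show (e.permCongrHom (MulAction.toPermHom ↥H _ h)) _ = _ ↔ _
    rw [hperm, e.injective.eq_iff, MulAction.Quotient.smul_coe, smul_eq_mul, mul_one,
      QuotientGroup.eq, mul_one, inv_mem_iff, Subgroup.mem_subgroupOf]
  · show e.permCongrHom (MulAction.toPermHom ↥H _ h) = 1 ↔ _
    rw [mem_hcore_inf]
    constructor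
    · intro h1 g
      have h2 := hperm h (g : ↥H ⧸ K.subgroupOf H)
      rw [h1, Equiv.Perm.one_apply, e.injective.eq_iff, MulAction.Quotient.smul_coe, smul_eq_mul,
        QuotientGroup.eq, Subgroup.mem_subgroupOf] at h2
      simpa [mul_assoc] using h2
    · intro h1
      refine Equiv.ext fun i => ?_
      obtain ⟨q, rfl⟩ := e.surjective i
      induction q using QuotientGroup.induction_on with
      | _ g =>
        rw [hperm, Equiv.Perm.one_apply, MulAction.Quotient.smul_coe, smul_eq_mul]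
        refine congrArg e (QuotientGroup.eq.2 ?_)
        rw [Subgroup.mem_subgroupOf]
        have := K.inv_mem (h1 g)
        simpa [mul_assoc] using this
  · obtain ⟨q, rfl⟩ := e.surjective i
    induction q using QuotientGroup.induction_on with
    | _ g =>
      refine ⟨g, ?_⟩
      show (e.permCongrHom (MulAction.toPermHom ↥H _ g)) _ = _
      rw [hperm, MulAction.Quotient.smul_coe, smul_eq_mul, mul_one]

namespace Side

variable {H K : Subgroup G} {d : ℕ} (S : Side H K d)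

/-- The suborbit action contains the alternating group. -/
def Big : Prop := alternatingGroup (Fin d) ≤ S.act.range

theorem card_compl : Fintype.card {i : Fin d // i ≠ S.pt} = d - 1 := by
  rw [Fintype.card_subtype_compl, Fintype.card_fin, Fintype.card_unique]

/-- The other points. -/
noncomputable def others : {i : Fin d // i ≠ S.pt} ≃ Fin (d - 1) :=
  (Fintype.equivFin _).trans (finCongr S.card_compl)

theorem keep (x : ↥(H ⊓ K)) (i : Fin d) :
    S.act ⟨(x : G), x.2.1⟩ i ≠ S.pt ↔ i ≠ S.pt := by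
  rw [not_iff_not]
  constructor
  · intro h
    exact (S.act ⟨(x : G), x.2.1⟩).injective (h.trans ((S.stab ⟨(x : G), x.2.1⟩).2 x.2.2).symm)
  · rintro rfl
    exact (S.stab ⟨(x : G), x.2.1⟩).2 x.2.2

/-- The action of the two-point stabiliser on the other points. -/
noncomputable def rho : ↥(H ⊓ K) →* Equiv.Perm (Fin (d - 1)) where
  toFun x := S.others.permCongr ((S.act ⟨(x : G), x.2.1⟩).subtypePerm fun i => S.keep x i)
  map_one' := by
    refine Equiv.ext fun i => ?_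
    have h : S.act ⟨((1 : ↥(H ⊓ K)) : G), (1 : ↥(H ⊓ K)).2.1⟩ = 1 := map_one S.act
    simp only [Equiv.permCongr_apply, Equiv.Perm.subtypePerm_apply, h, Equiv.Perm.one_apply,
      Subtype.coe_eta, Equiv.apply_symm_apply]
  map_mul' x y := by
    refine Equiv.ext fun i => ?_
    have h : S.act ⟨((x * y : ↥(H ⊓ K)) : G), (x * y).2.1⟩ =
        S.act ⟨(x : G), x.2.1⟩ * S.act ⟨(y : G), y.2.1⟩ :=
      map_mul S.act ⟨(x : G), x.2.1⟩ ⟨(y : G), y.2.1⟩
    simp only [Equiv.permCongr_apply, Equiv.Perm.subtypePerm_apply, h, Equiv.Perm.mul_apply,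
      Equiv.symm_apply_apply]

theorem rho_eq_one (x : ↥(H ⊓ K)) : S.rho x = 1 ↔ (x : G) ∈ a1 H K := by
  rw [← S.ker ⟨(x : G), x.2.1⟩]
  constructor
  · intro h
    refine Equiv.ext fun i => ?_
    by_cases hi : i = S.pt
    · rw [hi, Equiv.Perm.one_apply]; exact (S.stab ⟨(x : G), x.2.1⟩).2 x.2.2
    · have h1 := Equiv.ext_iff.1 h (S.others ⟨i, hi⟩)
      simp only [rho, MonoidHom.coe_mk, OneHom.coe_mk, Equiv.permCongr_apply, Equiv.symm_apply_apply,
        Equiv.Perm.one_apply, EmbeddingLike.apply_eq_iff_eq] at h1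
      exact congrArg Subtype.val h1
  · intro h
    refine Equiv.ext fun i => ?_
    simp [rho, Equiv.Perm.subtypePerm, h]

/-- The image of a subgroup of the two-point stabiliser. -/
noncomputable def img (R : Subgroup G) : Subgroup (Equiv.Perm (Fin (d - 1))) :=
  (R.subgroupOf (H ⊓ K)).map S.rho

theorem mem_img {R : Subgroup G} {σ : Equiv.Perm (Fin (d - 1))} :
    σ ∈ S.img R ↔ ∃ x : ↥(H ⊓ K), (x : G) ∈ R ∧ S.rho x = σ := by
  simp [img, Subgroup.mem_map, Subgroup.mem_subgroupOf]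

theorem img_mono {R R' : Subgroup G} (h : R ≤ R') : S.img R ≤ S.img R' :=
  Subgroup.map_mono fun _ hx => h hx

theorem img_top : S.img (H ⊓ K) = S.rho.range := by
  rw [img, Subgroup.subgroupOf_self, MonoidHom.range_eq_map]

theorem img_d2 {R : Subgroup G} (hR : R ≤ H ⊓ K) : S.img (d2 R) = d2 (S.img R) := by
  rw [img, img, ← d2_map]
  congr 1
  apply Subgroup.map_injective (f := (H ⊓ K).subtype) Subtype.val_injective
  rw [Subgroup.map_subgroupOf_eq_of_le ((d2_le R).trans hR), d2_map,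
    Subgroup.map_subgroupOf_eq_of_le hR]

theorem img_eq_bot_iff {R : Subgroup G} (hR : R ≤ H ⊓ K) : S.img R = ⊥ ↔ R ≤ a1 H K := by
  rw [Subgroup.eq_bot_iff_forall]
  constructor
  · intro h x hx
    exact (S.rho_eq_one ⟨x, hR hx⟩).1 (h _ (S.mem_img.2 ⟨⟨x, hR hx⟩, hx, rfl⟩))
  · intro h σ hσ
    obtain ⟨x, hx, rfl⟩ := S.mem_img.1 hσ
    exact (S.rho_eq_one x).2 (h hx)

theorem img_conj {R : Subgroup G} (hn : H ⊓ K ≤ Subgroup.normalizer (R : Set G)) :
    ∀ r ∈ S.rho.range, ∀ σ ∈ S.img R, r * σ * r⁻¹ ∈ S.img R := by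
  rintro _ ⟨y, rfl⟩ σ hσ
  obtain ⟨x, hx, rfl⟩ := S.mem_img.1 hσ
  exact S.mem_img.2 ⟨y * x * y⁻¹, by simpa using conj_mem hn y.2 hx, by simp⟩

theorem a1_le_inf : a1 H K ≤ H ⊓ K := le_inf (a1_le_left H K) (a1_le_right H K)

theorem card_range_act [Finite G] : Nat.card S.act.range = (a1 H K).relIndex H := by
  rw [← Subgroup.index_ker, Subgroup.relIndex]
  congr 1
  ext h
  exact S.ker h

theorem card_range_rho [Finite G] : Nat.card S.rho.range = (a1 H K).relIndex (H ⊓ K) := by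
  rw [← Subgroup.index_ker, Subgroup.relIndex]
  congr 1
  ext x
  exact S.rho_eq_one x

theorem rel_a1 [Finite G] (hd : (H ⊓ K).relIndex H = d) :
    Nat.card S.act.range = Nat.card S.rho.range * d := by
  rw [S.card_range_act, S.card_range_rho, ← hd, Subgroup.relIndex_mul_relIndex _ _ _ a1_le_inf inf_le_left]

include S in
theorem relIndex_a1_le [Finite G] : (a1 H K).relIndex (H ⊓ K) ≤ (d - 1)! := by
  rw [← S.card_range_rho]
  exact (Nat.le_of_dvd Nat.card_pos (Subgroup.card_subgroup_dvd_card _)).trans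
    (by rw [Nat.card_perm, Nat.card_fin])

theorem big_iff [Finite G] (h6 : 6 ≤ d) (hd : (H ⊓ K).relIndex H = d) :
    S.Big ↔ (d - 1)! ≤ 2 * Nat.card S.rho.range := by
  have hf : d ! = d * (d - 1)! := (Nat.mul_factorial_pred (by omega)).symm
  constructor
  · intro h
    have h1 := card_ge_of_alt_le (by omega) h
    rw [S.rel_a1 hd, hf] at h1
    exact Nat.le_of_mul_le_mul_left (h1.trans (le_of_eq (by ring))) (by omega : 0 < d)
  · intro h
    refine alt_le_of_card (by omega) ?_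
    rw [S.rel_a1 hd, hf]
    calc d * (d - 1)! ≤ d * (2 * Nat.card S.rho.range) := Nat.mul_le_mul_left d h
      _ = _ := by ring

theorem big_alt [Finite G] (h6 : 6 ≤ d) (hd : (H ⊓ K).relIndex H = d) (hB : S.Big) :
    alternatingGroup (Fin (d - 1)) ≤ S.rho.range :=
  alt_le_of_card (by omega) ((S.big_iff h6 hd).1 hB)

theorem exists_move (h6 : 6 ≤ d) {i j : Fin d} (hi : i ≠ S.pt) (hj : j ≠ S.pt) :
    ∃ σ ∈ alternatingGroup (Fin d), σ S.pt = S.pt ∧ σ i = j := by
  classical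
  by_cases hij : i = j
  · exact ⟨1, one_mem _, rfl, hij⟩
  obtain ⟨k, hk, l, hl, hkl⟩ : ∃ k ∈ Finset.univ \ {S.pt, i, j}, ∃ l ∈ Finset.univ \ {S.pt, i, j}, k ≠ l := by
    refine Finset.one_lt_card.1 ?_
    have h1 := Finset.le_card_sdiff {S.pt, i, j} (Finset.univ : Finset (Fin d))
    have h2 : ({S.pt, i, j} : Finset (Fin d)).card ≤ 3 := Finset.card_le_three
    rw [Finset.card_univ, Fintype.card_fin] at h1
    omega
  simp only [Finset.mem_sdiff, Finset.mem_univ, true_and, Finset.mem_insert, Finset.mem_singleton,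
    not_or] at hk hl
  refine ⟨Equiv.swap i j * Equiv.swap k l,
    Equiv.Perm.mul_mem_alternatingGroup_of_isSwap ⟨i, j, hij, rfl⟩ ⟨k, l, hkl, rfl⟩, ?_, ?_⟩
  · rw [Equiv.Perm.mul_apply, Equiv.swap_apply_of_ne_of_ne (Ne.symm hk.1) (Ne.symm hl.1),
      Equiv.swap_apply_of_ne_of_ne hi.symm hj.symm]
  · rw [Equiv.Perm.mul_apply, Equiv.swap_apply_of_ne_of_ne (Ne.symm hk.2.1) (Ne.symm hl.2.1),
      Equiv.swap_apply_left]

theorem moves (h6 : 6 ≤ d) {R : Subgroup G} (hR : R ≤ H ⊓ K)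
    (himg : alternatingGroup (Fin (d - 1)) ≤ S.img R) {i : Fin d} (hi : i ≠ S.pt) :
    ∃ (x : G) (hx : x ∈ H), x ∈ R ∧ S.act ⟨x, hx⟩ i ≠ i := by
  by_contra hno
  push Not at hno
  refine alt_not_comm (n := d - 1) (by omega) fun a ha b hb => ?_
  have key : ∀ a ∈ alternatingGroup (Fin (d - 1)), a (S.others ⟨i, hi⟩) = S.others ⟨i, hi⟩ := by
    intro a ha
    obtain ⟨x, hx, rfl⟩ := S.mem_img.1 (himg ha)
    simp only [rho, MonoidHom.coe_mk, OneHom.coe_mk, Equiv.permCongr_apply, Equiv.symm_apply_apply]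
    exact congrArg _ (Subtype.ext (hno x x.2.1 hx))
  exfalso
  haveI : NeZero (d - 1) := ⟨by omega⟩
  set q := S.others ⟨i, hi⟩
  obtain ⟨k, hk, l, hl, hkl⟩ : ∃ k ∈ Finset.univ.erase q, ∃ l ∈ Finset.univ.erase q, k ≠ l := by
    refine Finset.one_lt_card.1 ?_
    rw [Finset.card_erase_of_mem (Finset.mem_univ q), Finset.card_univ, Fintype.card_fin]
    omega
  have hkq := (Finset.mem_erase.1 hk).1
  have hlq := (Finset.mem_erase.1 hl).1
  have := key (Equiv.swap q k * Equiv.swap q l) (Equiv.Perm.mul_mem_alternatingGroup_of_isSwap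
    ⟨q, k, hkq.symm, rfl⟩ ⟨q, l, hlq.symm, rfl⟩)
  rw [Equiv.Perm.mul_apply, Equiv.swap_apply_left, Equiv.swap_apply_of_ne_of_ne hlq hkl.symm] at this
  exact hlq this

/-- The two-point stabiliser is maximal in the point stabiliser. -/
theorem maximal (h6 : 6 ≤ d) (hB : S.Big) {Y : Subgroup G} (h1 : H ⊓ K ≤ Y) {y : G} (hy : y ∈ Y)
    (hyH : y ∈ H) (hyK : y ∉ K) : H ≤ Y := by
  intro h hh
  by_cases hK : h ∈ K
  · exact h1 ⟨hh, hK⟩
  have hy' : S.act ⟨y, hyH⟩ S.pt ≠ S.pt := fun e => hyK ((S.stab _).1 e)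
  have hh' : S.act ⟨h, hh⟩ S.pt ≠ S.pt := fun e => hK ((S.stab _).1 e)
  obtain ⟨σ, hσ, hσ0, hσy⟩ := S.exists_move h6 hy' hh'
  obtain ⟨x, hx⟩ := hB hσ
  have hxX : (x : G) ∈ H ⊓ K := ⟨x.2, (S.stab x).1 (by rw [hx, hσ0])⟩
  have h2 : ((⟨h, hh⟩ : ↥H)⁻¹ * (x * ⟨y, hyH⟩) : ↥H).1 ∈ H ⊓ K :=
    ⟨Subtype.mem _, (S.stab _).1 (by
      rw [map_mul, map_mul, map_inv, Equiv.Perm.mul_apply, Equiv.Perm.mul_apply, hx, hσy,
        Equiv.Perm.inv_eq_iff_eq])⟩
  have h3 := Y.mul_mem (Y.mul_mem (h1 hxX) hy) (Y.inv_mem (h1 h2))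
  simpa [mul_assoc] using h3

end Side

end Cfsg.Agent.Lib.Perm.Unfaithful
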